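import Cfsg.Agent.Co1Out.Code
import Cfsg.Agent.Co1Out.Sylow
import Cfsg.Agent.Compute.M24Base

/-!
Finite data on the stabiliser of the marked octad in the monomial group, in the numbering of code words:
the translations, two elements of odd order and their norms, and a Sylow subgroup.
-/

set_option autoImplicit false
set_option maxRecDepth 100000

namespace Cfsg.Agent.CoOneUniq.Cent

open Cfsg Cfsg.Agent.Compute Cfsg.Agent.Co1Out

/-- The number of the word of the marked involution. -/
def k0 : ℕ := 1705

/-- The octad. -/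
def octL : List ℕ := [0, 12, 14, 16, 17, 18, 22, 23]

/-- The words constant on the octad. -/
def uL : List ℕ := [0, 43, 219, 240, 266, 289, 465, 506, 578, 617, 665, 690, 840, 867, 915, 952, 1051, 1072, 1216, 1259, 1297, 1338, 1482, 1505, 1625, 1650, 1666, 1705, 1875, 1912, 1928, 1955]

/-- Membership among them. -/
noncomputable def inU (k : ℕ) : Bool := uL.any (Nat.beq k)

/-- Four translations. -/
def tC : List ℕ := [0xbd933a4a303b88c41aab7a86d28440, 0xbd9ea34a30ab96c6d0e44cc4809460, 0xbd94f3ca30a384c2d4c39a56143480, 0xbd9a51ca305baac78887406899a8c0]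

/-- All translations. -/
def tA : List ℕ := [0xbdab49ca307b9ac5a928398a418820, 0xbd933a4a303b88c41aab7a86d28440, 0xbd9ea34a30ab96c6d0e44cc4809460, 0xbd8e654a304b90c24dedad02b10ca0, 0xbd94f3ca30a384c2d4c39a56143480, 0xbd8c77ca309b82c1a545a5502591a0, 0xbda954ca30538ac13e6131da322d00, 0xbda69aca303386c09e8253c856a160, 0xbd9a51ca305baac78887406899a8c0, 0xbd8832ca304392c385af58a75a1940, 0xbd9620ca306b9eca950920d4735260, 0xbd90114a30238ec48d75694cf54e80, 0xbd84b44a302b94ca3433191e63d520, 0xbd8285ca301b8cc990542b4ea7a6a0, 0xbd8ad24a3013a8c52c660a2b34bce0, 0xbd8646ca300ba6c320aa12d34a9de0]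

/-- An element of order fifteen. -/
def gC : ℕ := 0xb46a54baeca40e03346b24c227a152

/-- Its fifth power. -/
def hC : ℕ := 0x8dea72cad06b96c7a0233509352440

/-- Its third power. -/
def kC : ℕ := 0xbdaaa7b2320804e4929340dab298f0

/-- A permutation moving the fixed octad of the Sylow subgroup to the marked one. -/
def tauC : ℕ := 0xb846a4bc135c48da16a232207732d2

/-- The conjugated generators of the Sylow subgroup, as products of two elements of odd order. -/
def sylP : List (ℕ × ℕ × ℕ × ℕ × ℕ) := [(0xbd9ea34a30ab96c6d0e44cc4809460, 0x74a93546cc442a00acc56912778877, 15, 0x44734da4e6dd503d4862d04f5a02c, 15), (0xb40281c58e9dda07a494398a25aab2, 0x600483da0e4deb10d1462166d1adf2, 15, 0x945741b2f02b8960bcea9a0d5125a0, 5), (0x59147ca309b1ae52c75394c249037, 0x95e8f232365ba7041435498e268d40, 5, 0x4175a5e2c6c86e0bc482a8c43cd36, 7), (0x59015ca11539ac9bc55398a322697, 0x848e37b2f1ad940988ab0a5a43228e, 15, 0x6384745af0680b25cd4fa8d3421831, 7), (0x858284c817239ac10e74398af52eb1, 0x452b3b9927dc76111a6455540ccb0, 15, 0x3067ac2ee549315b4449a02f2d0d6,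 15)]

/-- The number fixed by the Sylow subgroup. -/
def k1 : ℕ := 455

/-- Commutators adding up to the unit numbers. -/
def combo : List (List (ℕ × ℕ)) := [[(gC, 1), (gC, 6), (gC, 7), (gC, 9)], [(gC, 0), (gC, 1), (gC, 6), (tC.getD 0 0, 0)], [(gC, 1), (gC, 2), (gC, 3), (gC, 4), (gC, 6), (gC, 7)], [(gC, 0), (gC, 2), (gC, 3), (gC, 4), (gC, 6), (gC, 8), (tC.getD 0 0, 0)], [(gC, 0), (gC, 2), (gC, 4), (gC, 6), (gC, 7), (gC, 9)], [(gC, 1), (gC, 2), (gC, 3), (gC, 5), (gC, 6), (gC, 8)], [(gC, 0), (gC, 1), (gC, 3), (tC.getD 0 0, 0)], [(gC, 1), (gC, 3), (gC, 6), (gC, 9)], [(gC, 0), (gC, 1), (gC, 2), (gC, 4), (gC, 5), (gC, 6), (gC, 8), (gC, 9)], [(gC, 3), (gC, 6), (tC.getD 0 0, 0)], [(gC, 1), (gC, 3), (gC, 5), (gC, 6), (gC, 9), (tC.getD 0 0, 0)]]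

/-- Propagation from the octad and one more point. -/
def steps : List (ℕ × List ℕ) := [(2, [134, 808]), (3, [1902, 67]), (4, [304, 59]), (5, [1902]), (6, [106, 19]), (7, [479]), (8, [239]), (9, [522]), (10, [105]), (11, [86]), (13, [135]), (15, [43]), (19, [15]), (20, [19]), (21, [])]

/-- The difference made by a permutation. -/
noncomputable def dK (g x : ℕ) : ℕ := Nat.mod (Nat.xor (aK g x) x) 2048

/-- The orbit of a number under a permutation. -/
noncomputable def orbK (g : ℕ) : ℕ → ℕ → List ℕ
  | 0, _ => []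
  | n + 1, x => x :: orbK g n (Nat.mod (aK g x) 2048)

/-- Parity of four bits. -/
noncomputable def par (m i j k l : ℕ) : Bool :=
  (m.testBit i != m.testBit j) != (m.testBit k != m.testBit l)

/-- The sum of the numbers conjugated by powers. -/
noncomputable def nK (g : ℕ) : ℕ → ℕ → ℕ
  | 0, _ => 0
  | n + 1, x => Nat.xor x (nK g n (Nat.mod (aK g x) 2048))

/-- The power of a code. -/
noncomputable def pC (g : ℕ) : ℕ → ℕ
  | 0 => rep24.one
  | n + 1 => rep24.mul g (pC g n)

/-- The code lies in the stabiliser of the marked involution. -/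
noncomputable def stB (g : ℕ) : Bool := inM24B g && fixB g k0

theorem uL_facts : (uL.all fun u => Nat.blt u 2048 && uL.all fun v => inU (Nat.xor u v)) = true ∧
    uL.length = 32 ∧ uL.Nodup ∧ inU 0 = true ∧ inU k0 = true := by decide +kernel

theorem stab_check : ([gC, hC, kC].all stB && tA.all stB && tC.all stB &&
    sylP.all fun q => stB q.1 && stB q.2.1 && stB q.2.2.2.1) = true := by decide +kernel

theorem split_check : allBelow 2048 (fun x => inU x || tC.any fun t =>
    inU (dK t x) && !(Nat.beq (dK t x) 0) && !(Nat.beq (dK t x) k0)) = true := by decide +kernel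

theorem move_check : (uL.all fun b => Nat.beq b 0 || Nat.beq b k0 || uL.all fun u =>
    Nat.beq u 0 || Nat.beq u k0 || (orbK gC 15 b).any fun y => Nat.beq y u || Nat.beq y (Nat.xor u k0)) = true := by
  decide +kernel

theorem par_check : (octL.all fun i => octL.all fun k => allBelow 24 fun j => allBelow 24 fun l =>
    Nat.beq i j || Nat.beq k i || Nat.beq k j || Nat.beq l j ||
      (List.range 12).any fun b => par (cw (2 ^ b)) i j k l) = true := by decide +kernel

theorem const_check : allBelow 4096 (fun y => !(inU (Nat.mod y 2048)) || octL.all fun i => octL.all fun k =>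
    (cw y).testBit i == (cw y).testBit k) = true := by decide +kernel

theorem octL_facts : octL.length = 8 ∧ octL.Nodup ∧ (octL.all fun i => Nat.blt i 24) = true := by
  decide +kernel

/-- The mask of the octad and a further point. -/
def fixM : ℕ := 0xc75003

theorem prop_check : propB steps fixM = true := by decide +kernel

theorem fixM_bits : allBelow 24 (fun i => !(fixM.testBit i) || octL.contains i || Nat.beq i 1) = true := by
  decide +kernel

theorem tA_oct : (tA.all fun t => octL.all fun i => Nat.beq (rep24.act t i) i) = true := by decide +kernel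

theorem tA_orbit : allBelow 24 (fun q => octL.contains q || tA.any fun t => Nat.beq (rep24.act t 1) q) = true := by
  decide +kernel

theorem twist_check : sameB (pC hC 3) rep24.one = true ∧ sameB (pC kC 5) rep24.one = true ∧
    (tA.all fun t => sameB (pC (rep24.mul t hC) 3) rep24.one && sameB (pC (rep24.mul t kC) 5) rep24.one) = true := by
  decide +kernel

theorem norm_check : allBelow 2048 (fun a => inU a || !(inU (nK hC 3 a)) || !(inU (nK kC 5 a))) = true := by
  decide +kernel

theorem syl_check : inM24B tauC = true ∧ Nat.beq (Nat.mod (aK tauC k1) 2048) k0 = true ∧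
    (topGens syl2FChain).all (fun s => fixB s k1) = true ∧
    sylP.length = (topGens syl2FChain).length ∧
    allBelow sylP.length (fun i => sameB (rep24.mul tauC ((topGens syl2FChain).getD i 0))
      (rep24.mul (sylP.getD i (0, 0, 0, 0, 0)).1 tauC)) = true ∧
    (sylP.all fun q => sameB q.1 (rep24.mul q.2.1 q.2.2.2.1) && sameB (pC q.2.1 q.2.2.1) rep24.one &&
      sameB (pC q.2.2.2.1 q.2.2.2.2) rep24.one && Nat.beq (Nat.mod q.2.2.1 2) 1 &&
      Nat.beq (Nat.mod q.2.2.2.2 2) 1) = true := by decide +kernel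

theorem combo_check : allBelow 11 (fun i => Nat.beq (2 ^ i)
    (((combo.getD i []).map fun q => dK q.1 (2 ^ q.2)).foldr Nat.xor 0) &&
    (combo.getD i []).all fun q => stB q.1 && Nat.blt q.2 11) = true := by decide +kernel

theorem k0_word : ∀ p, word k0 p = Leech.bitWord 7430140 p := by decide +kernel

end Cfsg.Agent.CoOneUniq.Cent
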