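import Cfsg.Agent.CoOneUniq.MapOc
import Cfsg.Agent.Core.Gaschutz

/-!
The identification of the monomial groups extends to the centralisers of the involutions: compatible
pairs form a central extension by a group of order two, split by Gaschütz's theorem over the
intersection with the monomial group, which has no quotient of order two.
-/

set_option autoImplicit false
set_option maxHeartbeats 2000000

open Cfsg Cfsg.Agent.ThreeTrans.OrthCohom Cfsg.Agent.Classical.Quad QuadraticMap Cfsg.Agent.LargeExtra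
  Cfsg.Agent.CoOneType
open Cfsg.Agent.Leech.CentOne (toCo zC)
open scoped Classical

namespace Cfsg.Agent.CoOneUniq

universe u

variable {G : Type u} [Group G] [Finite G] {z : G}

theorem exists_functional (ψ : V →+ ZMod 2) : ∃ w : V, ∀ v, Bp w v = ψ v :=
  ⟨(LinearMap.BilinForm.toDual (polarBilin (qP 4)) nondegP4).symm (ψ.toZModLinearMap 2),
    fun v => LinearMap.BilinForm.apply_toDual_symm_apply (B := polarBilin (qP 4)) (hB := nondegP4)
      (ψ.toZModLinearMap 2) v⟩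

variable {S : CoOne z} (K : KData S) (SC : CoOne zC)

/-- The map of the extraspecial groups. -/
noncomputable def KData.fQ (a : G) : Spor.Co1 := if h : a ∈ K.N then K.iota ⟨a, h⟩ else 1

theorem KData.fQ_eq {a : G} (h : a ∈ K.N) : K.fQ a = K.iota ⟨a, h⟩ := dif_pos h

theorem KData.fQ_mem {a : G} (h : a ∈ oc z) : K.fQ a ∈ oc zC := by
  rw [K.fQ_eq (K.oc_le h)]
  exact (K.map_oc _).1 h

theorem KData.fQ_mul {a b : G} (ha : a ∈ K.N) (hb : b ∈ K.N) : K.fQ (a * b) = K.fQ a * K.fQ b := by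
  rw [K.fQ_eq (mul_mem ha hb), K.fQ_eq ha, K.fQ_eq hb, ← map_mul]
  rfl

theorem KData.fQ_inj {a b : G} (ha : a ∈ K.N) (hb : b ∈ K.N) (h : K.fQ a = K.fQ b) : a = b := by
  rw [K.fQ_eq ha, K.fQ_eq hb] at h
  exact congrArg Subtype.val (K.iota_inj h)

theorem KData.fQ_one : K.fQ 1 = 1 := by
  rw [K.fQ_eq (one_mem _)]
  exact map_one K.iota

theorem KData.fQ_z : K.fQ z = zC := by rw [K.fQ_eq K.z_mem, K.iota_z]

theorem KData.fQ_zp (e : ZMod 2) : K.fQ (zp z e) = zp zC e := by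
  rcases CoOneType.zmod_cases e with rfl | rfl
  · rw [zp_zero, zp_zero, K.fQ_one]
  · rw [zp_one, zp_one, K.fQ_z]

theorem KData.fQ_surj {b : Spor.Co1} (hb : b ∈ oc zC) : ∃ a ∈ oc z, K.fQ a = b := by
  obtain ⟨x, hx⟩ := K.κ.surjective ⟨b, oc_model_le hb⟩
  have e : (K.κ x : Spor.Co1) = b := congrArg Subtype.val hx
  refine ⟨x, (K.map_oc x).2 (e ▸ hb), ?_⟩
  rw [K.fQ_eq x.2]
  exact e

include SC in
theorem KData.exists_isometry : ∃ L : O, ∀ a ∈ oc z, L.1 (S.pr a) = SC.pr (K.fQ a) := by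
  choose l hl hlp using S.pr_surj
  have hwd : ∀ a ∈ oc z, SC.pr (K.fQ (l (S.pr a))) = SC.pr (K.fQ a) := fun a ha => by
    rcases S.pr_eq ha (hl _) (hlp _).symm with e | e <;> rw [e]
    rw [K.fQ_mul (K.oc_le ha) K.z_mem, K.fQ_z, SC.pr_mul _ (K.fQ_mem ha) _ SC.zmem, SC.pr_z, add_zero]
  let F : V →+ V := AddMonoidHom.mk' (fun v => SC.pr (K.fQ (l v))) fun x y => by
    have h := hwd _ (mul_mem (hl x) (hl y))
    rw [S.pr_mul _ (hl x) _ (hl y), hlp, hlp] at h
    rw [h, K.fQ_mul (K.oc_le (hl x)) (K.oc_le (hl y)), SC.pr_mul _ (K.fQ_mem (hl x)) _ (K.fQ_mem (hl y))]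
  have hinj : Function.Injective F := (injective_iff_map_eq_zero F).2 fun v hv => by
    have h1 : l v = 1 ∨ l v = z := by
      rcases SC.pr_ker _ (K.fQ_mem (hl v)) hv with e | e
      · exact Or.inl (K.fQ_inj (K.oc_le (hl v)) (one_mem _) (e.trans K.fQ_one.symm))
      · exact Or.inr (K.fQ_inj (K.oc_le (hl v)) K.z_mem (e.trans K.fQ_z.symm))
    rw [← hlp v]
    rcases h1 with e | e <;> rw [e]
    exacts [S.pr_one, S.pr_z]
  let E : V ≃ₗ[ZMod 2] V := LinearEquiv.ofBijective (F.toZModLinearMap 2)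
    ⟨hinj, Finite.injective_iff_surjective.1 hinj⟩
  have hq : ∀ v, qP 4 (E v) = qP 4 v := fun v => by
    refine zp_inj SC.zne ?_
    show zp zC (qP 4 (SC.pr (K.fQ (l v)))) = _
    rw [← SC.pr_sq _ (K.fQ_mem (hl v)), ← K.fQ_mul (K.oc_le (hl v)) (K.oc_le (hl v)), S.pr_sq _ (hl v),
      K.fQ_zp, hlp]
  exact ⟨⟨E, hq⟩, fun a ha => hwd a ha⟩

/-- The compatible pairs. -/
def KData.pairs : Subgroup (↥(Cz z) × ↥C1) where
  carrier := {p | ∀ a ∈ oc z, K.fQ ((p.1 : G) * a * (p.1 : G)⁻¹) = p.2 * K.fQ a * (p.2 : Spor.Co1)⁻¹}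
  one_mem' := fun a _ => by simp
  mul_mem' := fun {p q} hp hq a ha => by
    show K.fQ ((p.1 : G) * q.1 * a * ((p.1 : G) * q.1)⁻¹) =
      (p.2 : Spor.Co1) * q.2 * K.fQ a * ((p.2 : Spor.Co1) * q.2)⁻¹
    rw [show (p.1 : G) * q.1 * a * ((p.1 : G) * q.1)⁻¹ = p.1 * ((q.1 : G) * a * (q.1 : G)⁻¹) * (p.1 : G)⁻¹ by group,
      hp _ (oc_conj_mem q.1.2 ha), hq a ha]
    group
  inv_mem' := fun {p} hp a ha => by
    show K.fQ ((p.1 : G)⁻¹ * a * ((p.1 : G)⁻¹)⁻¹) =
      (p.2 : Spor.Co1)⁻¹ * K.fQ a * ((p.2 : Spor.Co1)⁻¹)⁻¹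
    have h := hp _ (oc_conj_mem (inv_mem p.1.2) ha)
    rw [show (p.1 : G) * ((p.1 : G)⁻¹ * a * ((p.1 : G)⁻¹)⁻¹) * (p.1 : G)⁻¹ = a by group] at h
    rw [h]
    group

include SC in
theorem KData.pairs_surj (c : ↥(Cz z)) : ∃ d : ↥C1, (c, d) ∈ K.pairs := by
  obtain ⟨L, hL⟩ := K.exists_isometry SC
  have hc := Subgroup.mem_centralizer_singleton_iff.1 c.2
  have hdm : ∀ g h : O, dsign (g * h) = dsign g * dsign h :=
    dsign_mul nondegP4 (Or.inr (by simp))
  have heven : dsign (L * S.act c * L⁻¹) = 1 := by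
    rw [hdm, hdm, S.act_even _ hc, mul_one, ← hdm, mul_inv_cancel, dsign_one]
  obtain ⟨d, hd, hda⟩ := SC.act_surj _ heven
  have hdif : ∀ a ∈ oc z, ∃ e : ZMod 2,
      K.fQ ((c : G) * a * (c : G)⁻¹) = zp zC e * (d * K.fQ a * d⁻¹) := fun a ha => by
    have hca := S.nrm hc ha
    have hb := SC.nrm hd (K.fQ_mem ha)
    rcases SC.pr_eq hb (K.fQ_mem hca) (by
      rw [SC.act_spec d hd _ (K.fQ_mem ha), ← hL _ hca, S.act_spec _ hc a ha, ← hL a ha, hda,
        oG_mul_apply, oG_mul_apply, oG_inv_apply]) with e | e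
    · exact ⟨0, by rw [e, zp_zero, one_mul]⟩
    · exact ⟨1, by rw [e, zp_one, SC.comm hb]⟩
  choose! ε hε using hdif
  choose l hl hlp using S.pr_surj
  have hcom : ∀ a ∈ oc z, ∀ e, zp zC e * (d * K.fQ a * d⁻¹) = d * K.fQ a * d⁻¹ * zp zC e :=
    fun a ha e => (SC.comm_zp (SC.comm (SC.nrm hd (K.fQ_mem ha))) e).symm
  have hadd : ∀ a ∈ oc z, ∀ b ∈ oc z, ε (a * b) = ε a + ε b := fun a ha b hb => by
    have h := hε _ (mul_mem ha hb)
    rw [show (c : G) * (a * b) * (c : G)⁻¹ = (c : G) * a * (c : G)⁻¹ * ((c : G) * b * (c : G)⁻¹) by group,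
      K.fQ_mul (K.oc_le (S.nrm hc ha)) (K.oc_le (S.nrm hc hb)), hε a ha, hε b hb,
      K.fQ_mul (K.oc_le ha) (K.oc_le hb)] at h
    refine zp_inj SC.zne (mul_right_cancel (b := d * (K.fQ a * K.fQ b) * d⁻¹) ?_).symm
    rw [← h, zp_add SC.zz, show zp zC (ε a) * (d * K.fQ a * d⁻¹) * (zp zC (ε b) * (d * K.fQ b * d⁻¹)) =
      zp zC (ε a) * (d * K.fQ a * d⁻¹ * zp zC (ε b)) * (d * K.fQ b * d⁻¹) by group, ← hcom a ha]
    group
  have hεz : ε z = 0 := by
    have h := hε z S.zmem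
    rw [hc, mul_inv_cancel_right, K.fQ_z, hd, mul_inv_cancel_right] at h
    refine zp_inj SC.zne ?_
    rw [zp_zero]
    exact mul_eq_right.1 h.symm
  have hwd : ∀ a ∈ oc z, ε a = ε (l (S.pr a)) := fun a ha => by
    rcases S.pr_eq ha (hl _) (hlp _).symm with e | e <;> rw [e]
    rw [hadd a ha z S.zmem, hεz, add_zero]
  let ψ : V →+ ZMod 2 := AddMonoidHom.mk' (fun v => ε (l v)) fun x y => by
    have h := hwd _ (mul_mem (hl x) (hl y))
    rw [S.pr_mul _ (hl x) _ (hl y), hlp, hlp] at h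
    rw [← h, hadd _ (hl x) _ (hl y)]
  let E : V ≃ₗ[ZMod 2] V := L.1
  let ψ' : V →+ ZMod 2 := ψ.comp (E.symm.toAddMonoidHom.comp (L * S.act c * L⁻¹)⁻¹.1.toAddMonoidHom)
  obtain ⟨w, hw⟩ := exists_functional ψ'
  obtain ⟨q, hq, hqw⟩ := SC.pr_surj w
  have hqd : q * d ∈ C1 := Subgroup.mem_centralizer_singleton_iff.2 (Commute.mul_left (SC.comm hq) hd).eq
  refine ⟨⟨q * d, hqd⟩, fun a ha => ?_⟩
  show K.fQ ((c : G) * a * (c : G)⁻¹) = q * d * K.fQ a * (q * d)⁻¹
  have hb := SC.nrm hd (K.fQ_mem ha)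
  have e := SC.commutator_eq hq hb
  rw [hqw, hw] at e
  have hψ : ψ' (SC.pr (d * K.fQ a * d⁻¹)) = ε a := by
    rw [hwd a ha, SC.act_spec d hd _ (K.fQ_mem ha), hda]
    show ε (l (E.symm (((L * S.act c * L⁻¹)⁻¹).1 ((L * S.act c * L⁻¹).1 (SC.pr (K.fQ a)))))) = _
    rw [oG_inv_apply, ← hL a ha]
    exact congrArg (fun v => ε (l v)) (E.symm_apply_apply _)
  rw [hψ] at e
  rw [hε a ha, ← e]
  group

theorem KData.snd_mem_of_fst {d : ↥C1} (h : ((1 : ↥(Cz z)), d) ∈ K.pairs) :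
    (d : Spor.Co1) = 1 ∨ (d : Spor.Co1) = zC := by
  obtain ⟨SC⟩ := exists_model_co
  have hcomm : ∀ b ∈ oc zC, (d : Spor.Co1) * b = b * d := fun b hb => by
    obtain ⟨a, ha, rfl⟩ := K.fQ_surj hb
    have e := h a ha
    simp only [Subgroup.coe_one, one_mul, inv_one, mul_one] at e
    exact mul_inv_eq_iff_eq_mul.1 e.symm
  have hmem : (d : Spor.Co1) ∈ oc zC :=
    SC.sett.cent (Subgroup.mem_centralizer_iff.2 fun b hb => (hcomm b hb).symm)
  exact SC.sett.center_cases hmem fun b hb => (hcomm b hb).symm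

theorem KData.z_pair : ((1 : ↥(Cz z)), (⟨zC, Subgroup.mem_centralizer_singleton_iff.2 rfl⟩ : ↥C1)) ∈ K.pairs :=
  fun a ha => by
    obtain ⟨SC⟩ := exists_model_co
    show K.fQ (1 * a * 1⁻¹) = zC * K.fQ a * zC⁻¹
    rw [one_mul, inv_one, mul_one, ← SC.comm (K.fQ_mem ha), mul_inv_cancel_right]

theorem KData.graph_mem {x : G} (hN : x ∈ K.N) (hC : x ∈ Cz z) :
    ((⟨x, hC⟩ : ↥(Cz z)), (⟨K.iota ⟨x, hN⟩,
      (K.iota_mem_iff ⟨x, hN⟩).2 (Subgroup.mem_centralizer_singleton_iff.1 hC)⟩ : ↥C1)) ∈ K.pairs :=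
  fun a ha => by
    show K.fQ (x * a * x⁻¹) = K.iota ⟨x, hN⟩ * K.fQ a * (K.iota ⟨x, hN⟩)⁻¹
    rw [K.fQ_eq (mul_mem (mul_mem hN (K.oc_le ha)) (inv_mem hN)), K.fQ_eq (K.oc_le ha), ← map_inv,
      ← map_mul, ← map_mul]
    rfl

/-- The identification of the centralisers. -/
theorem KData.hasCentIso : K.HasCentIso := by
  obtain ⟨SC⟩ := exists_model_co
  have hzC1 : zC ∈ C1 := Subgroup.mem_centralizer_singleton_iff.2 rfl
  let p : ↥K.pairs →* ↥(Cz z) := (MonoidHom.fst _ _).comp K.pairs.subtype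
  let q : ↥K.pairs →* Spor.Co1 := C1.subtype.comp ((MonoidHom.snd _ _).comp K.pairs.subtype)
  have hp : Function.Surjective p := fun c => by
    obtain ⟨d, hd⟩ := K.pairs_surj SC c
    exact ⟨⟨(c, d), hd⟩, rfl⟩
  let ε₁ : ↥K.pairs := ⟨((1 : ↥(Cz z)), ⟨zC, hzC1⟩), K.z_pair⟩
  have hker : ∀ d : ↥K.pairs, p d = 1 → q d = 1 ∨ q d = zC := fun d hd => by
    obtain ⟨⟨c, d'⟩, hm⟩ := d
    change c = 1 at hd
    subst hd
    exact K.snd_mem_of_fst hm
  have hcardK : Nat.card ↥p.ker = 2 := by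
    rw [← SetLike.coe_sort_coe, Nat.card_coe_set_eq,
      show (p.ker : Set ↥K.pairs) = {1, ε₁} from ?_, Set.ncard_pair]
    · exact fun h => SC.zne (congrArg q h).symm
    · ext d
      simp only [SetLike.mem_coe, MonoidHom.mem_ker, Set.mem_insert_iff, Set.mem_singleton_iff]
      refine ⟨fun hd => ?_, fun hd => ?_⟩
      · rcases hker d hd with e | e
        · exact Or.inl (Subtype.ext (Prod.ext hd (Subtype.ext e)))
        · exact Or.inr (Subtype.ext (Prod.ext hd (Subtype.ext e)))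
      · rcases hd with rfl | rfl <;> rfl
  have hcomm : IsMulCommutative ↥p.ker := by
    have : Fact (Nat.Prime 2) := ⟨Nat.prime_two⟩
    have := isCyclic_of_prime_card hcardK
    exact ⟨⟨IsCyclic.commGroup.mul_comm⟩⟩
  let M : Subgroup ↥(Cz z) := K.N.subgroupOf (Cz z)
  let φ : ↥M →* Spor.Co1 := MonoidHom.mk' (fun x => K.iota ⟨x.1.1, x.2⟩) fun x y => map_mul K.iota ⟨x.1.1, x.2⟩ ⟨y.1.1, y.2⟩
  let γ : ↥M →* ↥K.pairs := MonoidHom.mk'
    (fun x => ⟨((x : ↥(Cz z)), ⟨φ x, (K.iota_mem_iff _).2 (Subgroup.mem_centralizer_singleton_iff.1 x.1.2)⟩),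
      K.graph_mem x.2 x.1.2⟩)
    fun x y => Subtype.ext (Prod.ext rfl (Subtype.ext (map_mul φ x y)))
  have hpγ : ∀ x, p (γ x) = (x : ↥(Cz z)) := fun _ => rfl
  have hqγ : ∀ x, q (γ x) = φ x := fun _ => rfl
  have hφinj : Function.Injective φ := fun x y h =>
    Subtype.ext (Subtype.ext (congrArg (fun t : ↥K.N => (t : G)) (K.iota_inj h) :))
  have hφrange : φ.range = Cent.CN := by
    ext y
    constructor
    · rintro ⟨x, rfl⟩
      exact ⟨(K.κ ⟨x.1.1, x.2⟩).2, (K.iota_mem_iff _).2 (Subgroup.mem_centralizer_singleton_iff.1 x.1.2)⟩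
    · rintro ⟨h1, h2⟩
      obtain ⟨x, hx⟩ := K.κ.surjective ⟨y, h1⟩
      have e : K.iota x = y := congrArg Subtype.val hx
      exact ⟨⟨⟨x, Subgroup.mem_centralizer_singleton_iff.2 ((K.iota_mem_iff x).1 (e ▸ h2))⟩, x.2⟩, e⟩
  have hcardM : Nat.card ↥M = Nat.card ↥Cent.CN := by
    rw [← hφrange]
    exact Nat.card_congr (MonoidHom.ofInjective hφinj).toEquiv
  have hsyl : 2 ^ 21 ∣ Nat.card ↥M := by
    obtain ⟨P, hP, -, hPc⟩ := Cent.exists_sylow_le Cent.CN
      (fun x hx y hy => mul_mem (mul_mem (mul_mem hx hy) (inv_mem hx)) (inv_mem hy))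
      fun x hx _ _ _ => hx
    rw [hcardM, ← hPc]
    exact Subgroup.card_dvd_of_le hP
  obtain ⟨m, hm⟩ := hsyl
  have hm' : m * M.index = 42525 := by
    have h := M.card_mul_index
    rw [hm, S.cent_card, show (512 : ℕ) * 174182400 = 2 ^ 21 * 42525 by norm_num, mul_assoc] at h
    exact Nat.eq_of_mul_eq_mul_left (by norm_num) h
  have hmodd : m % 2 = 1 ∧ M.index % 2 = 1 := by
    have : (m * M.index) % 2 = 1 := by rw [hm']
    rw [Nat.mul_mod] at this
    rcases Nat.mod_two_eq_zero_or_one m with h1 | h1 <;>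
      rcases Nat.mod_two_eq_zero_or_one M.index with h2 | h2 <;> rw [h1, h2] at this <;> simp_all
  obtain ⟨H, hH⟩ := Core.gaschutz_exists (K := p.ker) (U := M.comap p) (A := γ.range)
    (fun d hd => by
      show p d ∈ M
      rw [MonoidHom.mem_ker.1 hd]; exact one_mem M)
    (by
      rw [hcardK, Subgroup.index_comap_of_surjective _ hp, Nat.coprime_two_left, Nat.odd_iff]
      exact hmodd.2)
    (by rintro _ ⟨x, rfl⟩; exact x.2)
    (by
      rw [eq_bot_iff]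
      rintro _ ⟨⟨x, rfl⟩, hx⟩
      have : (x : ↥(Cz z)) = 1 := hx
      rw [Subgroup.mem_bot, show x = 1 from Subtype.ext this, map_one])
    (by
      refine le_antisymm (sup_le ?_ ?_) fun d hd => ?_
      · intro d hd
        show p d ∈ M
        rw [MonoidHom.mem_ker.1 hd]; exact one_mem M
      · rintro _ ⟨x, rfl⟩; exact x.2
      · rw [show d = d * (γ ⟨p d, hd⟩)⁻¹ * γ ⟨p d, hd⟩ by group]
        refine Subgroup.mul_mem_sup ?_ ⟨_, rfl⟩
        rw [MonoidHom.mem_ker, map_mul, map_inv, hpγ, mul_inv_cancel])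
  let pH : ↥H →* ↥(Cz z) := p.comp H.subtype
  have hpH : Function.Bijective pH := by
    refine ⟨(injective_iff_map_eq_one pH).2 fun d hd => ?_, fun c => ?_⟩
    · have h1 : (d : ↥K.pairs) ∈ p.ker ⊓ H := ⟨hd, d.2⟩
      rw [disjoint_iff.1 hH.disjoint, Subgroup.mem_bot] at h1
      exact Subtype.ext h1
    · obtain ⟨x, rfl⟩ := hp c
      obtain ⟨⟨⟨k, hk⟩, h⟩, he : k * (h : ↥K.pairs) = x⟩ := hH.2 x
      refine ⟨h, ?_⟩
      show p h = p x
      rw [← he, map_mul, MonoidHom.mem_ker.1 hk, one_mul]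
  let ec : ↥(Cz z) →* Spor.Co1 := (q.comp H.subtype).comp (MulEquiv.ofBijective pH hpH).symm.toMonoidHom
  have hec : ∀ c, ∃ d : ↥K.pairs, p d = c ∧ q d = ec c := fun c =>
    ⟨((MulEquiv.ofBijective pH hpH).symm c).1, (MulEquiv.ofBijective pH hpH).apply_symm_apply c, rfl⟩
  have hw : ∀ x : ↥M, (φ x)⁻¹ * ec x = 1 ∨ (φ x)⁻¹ * ec x = zC := fun x => by
    obtain ⟨d, hd1, hd2⟩ := hec x
    have := hker ((γ x)⁻¹ * d) (by rw [map_mul, map_inv, hpγ, hd1, inv_mul_cancel])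
    rwa [map_mul, map_inv, hqγ, hd2] at this
  have hφC : ∀ x, φ x ∈ C1 := fun x => by
    have h : φ x ∈ φ.range := ⟨x, rfl⟩
    rw [hφrange] at h
    exact h.2
  have hcz : ∀ (y : ↥M) (w : Spor.Co1), w = 1 ∨ w = zC → φ y * w = w * φ y := fun y w hw => by
    rcases hw with rfl | rfl
    · simp
    · exact Subgroup.mem_centralizer_singleton_iff.1 (hφC y)
  let δ : ↥M →* Spor.Co1 := MonoidHom.mk' (fun x => (φ x)⁻¹ * ec x) fun x y => by
    rw [map_mul, show ((x * y : ↥M) : ↥(Cz z)) = x * y from rfl, map_mul, mul_inv_rev]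
    calc (φ y)⁻¹ * (φ x)⁻¹ * (ec x * ec y)
        = (φ y)⁻¹ * (((φ x)⁻¹ * ec x) * φ y) * ((φ y)⁻¹ * ec y) := by group
      _ = _ := by rw [← hcz y _ (hw x), inv_mul_cancel_left]
  have hδ : δ = 1 := by
    obtain ⟨P, -, hPL, hPc⟩ := Cent.exists_sylow_le (δ.ker.map φ)
      (fun a ha b hb => by
        rw [← hφrange] at ha hb
        obtain ⟨x, rfl⟩ := ha
        obtain ⟨y, rfl⟩ := hb
        refine ⟨x * y * x⁻¹ * y⁻¹, ?_, by simp⟩
        have hxy : δ x * δ y = δ y * δ x := by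
          rcases hw x with e | e <;> rcases hw y with e' | e' <;>
            simp only [δ, MonoidHom.mk'_apply, e, e', one_mul, mul_one]
        rw [SetLike.mem_coe, MonoidHom.mem_ker, map_mul, map_mul, map_mul, map_inv, map_inv, hxy]
        group)
      fun a ha n hn han => by
        rw [← hφrange] at ha
        obtain ⟨x, rfl⟩ := ha
        refine ⟨x, ?_, rfl⟩
        have hx : x ^ n = 1 := hφinj (by rw [map_pow, han, map_one])
        rw [SetLike.mem_coe, MonoidHom.mem_ker]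
        rcases hw x with e | e
        · exact e
        · exfalso
          have h1 : (δ x) ^ n = 1 := by rw [← map_pow, hx, map_one]
          rw [show δ x = zC from e] at h1
          have h2 : orderOf zC ∣ n := orderOf_dvd_of_pow_eq_one h1
          rw [Leech.CentOne.orderOf_zC] at h2
          omega
    have h1 : 2 ^ 21 ∣ Nat.card ↥δ.ker := by
      rw [← hPc, ← Subgroup.card_map_of_injective (f := φ) (K := δ.ker) hφinj]
      exact Subgroup.card_dvd_of_le hPL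
    obtain ⟨n, hn⟩ := h1
    have h2 : n * δ.ker.index = m := by
      have h := δ.ker.card_mul_index
      rw [hn, hm, mul_assoc] at h
      exact Nat.eq_of_mul_eq_mul_left (by norm_num) h
    have h3 : δ.ker.index ∣ 2 := by
      rw [Subgroup.index_ker, ← show Nat.card ↥(Subgroup.zpowers zC) = 2 by
        rw [Nat.card_zpowers, Leech.CentOne.orderOf_zC]]
      refine Subgroup.card_dvd_of_le ?_
      rintro _ ⟨x, rfl⟩
      rcases hw x with e | e
      · rw [show δ x = 1 from e]; exact one_mem _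
      · rw [show δ x = zC from e]; exact Subgroup.mem_zpowers _
    have h4 : δ.ker.index = 1 := by
      rcases (Nat.dvd_prime Nat.prime_two).1 h3 with e | e
      · exact e
      · exfalso
        rw [e] at h2
        omega
    exact MonoidHom.ker_eq_top_iff.1 (Subgroup.index_eq_one.1 h4)
  have hagree : ∀ x : ↥M, ec x = φ x := fun x => (inv_mul_eq_one.1 (DFunLike.congr_fun hδ x)).symm
  have hinj : Function.Injective ec := (injective_iff_map_eq_one ec).2 fun c hc => by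
    obtain ⟨d, hd1, hd2⟩ := hec c
    have hfix : ∀ a ∈ oc z, (c : G) * a * (c : G)⁻¹ = a := fun a ha => by
      have h := d.2 a ha
      rw [show (d.1.1 : G) = c from congrArg Subtype.val hd1,
        show (d.1.2 : Spor.Co1) = 1 from hd2.trans hc, one_mul, inv_one, mul_one] at h
      exact K.fQ_inj (K.oc_le (oc_conj_mem c.2 ha)) (K.oc_le ha) h
    have hcm : ∀ a ∈ oc z, a * (c : G) = (c : G) * a := fun a ha =>
      (mul_inv_eq_iff_eq_mul.1 (hfix a ha)).symm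
    have hcoc : (c : G) ∈ oc z := S.sett.cent (Subgroup.mem_centralizer_iff.2 hcm)
    rcases S.sett.center_cases hcoc hcm with e | e
    · exact Subtype.ext e
    · exfalso
      have hcN : c ∈ M := Subgroup.mem_subgroupOf.2 (by rw [e]; exact K.z_mem)
      have h := hagree ⟨c, hcN⟩
      rw [hc] at h
      refine SC.zne ?_
      rw [h, ← K.iota_z]
      exact congrArg K.iota (Subtype.ext e.symm)
  have hrange : ec.range = C1 := by
    refine Subgroup.eq_of_le_of_card_ge (fun _ ⟨c, hc⟩ => ?_) ?_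
    · obtain ⟨d, -, hd⟩ := hec c
      rw [← hc, ← hd]
      exact d.1.2.2
    · rw [← Nat.card_congr (MonoidHom.ofInjective hinj).toEquiv, S.cent_card, SC.cent_card]
  refine ⟨(MonoidHom.ofInjective hinj).trans (MulEquiv.subgroupCongr hrange), fun x h1 h2 => ?_⟩
  exact hagree ⟨⟨x, h2⟩, h1⟩

end Cfsg.Agent.CoOneUniq
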