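import Cfsg.Agent.Leech.CentOneCo
import Cfsg.Agent.Leech.Monomial
import Cfsg.Agent.CoOneGolay.Iso
import Cfsg.Agent.CoOneType.Build

/-!
# Uniqueness of the first Conway group: shared notions

The monomial subgroup `2 ^ 11 : M24` of the model, coded by eleven bits with the marked involution
at `1`, and the data linking a group with the hypothesis to it.
-/

set_option autoImplicit false

open Cfsg Cfsg.Agent.CoOneType

namespace Cfsg.Agent.CoOneUniq

open Cfsg.Agent.Leech.CentOne (toCo zC)

/-- The code words of the eleven coordinates, as masks in the numbering of `Leech.idx`. -/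
def wordTab : List ℕ :=
  [9347075, 11527835, 11468055, 11448171, 13549267, 10765331, 2401801, 427666, 2501890, 48147, 790083]

/-- The mask of a coded vector. -/
def wordM (v : ℕ) : ℕ :=
  (List.range 11).foldr (fun k m => m ^^^ (if v.testBit k then wordTab.getD k 0 else 0)) 0

/-- The group of sign changes. -/
def A1 : Subgroup Spor.Co1 :=
  Subgroup.closure {x | ∃ c, ∃ hc : c ∈ golayCode, x = toCo (Leech.signCo0 c hc)}

/-- The group of coordinate permutations. -/
def P1 : Subgroup Spor.Co1 :=
  Subgroup.closure {x | ∃ σ, ∃ hσ : σ ∈ Cfsg.M24, x = toCo (Leech.permCo0 σ hσ)}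

/-- The monomial group `2 ^ 11 : M24`. -/
def N1 : Subgroup Spor.Co1 := A1 ⊔ P1

/-- The centraliser of the marked involution. -/
abbrev C1 : Subgroup Spor.Co1 := Subgroup.centralizer ({zC} : Set Spor.Co1)

instance co1_finite : Finite Spor.Co1 := by
  have := Leech.finite_co0
  exact Finite.of_surjective toCo (QuotientGroup.mk'_surjective _)

/-- The model satisfies the hypothesis at the marked involution. -/
theorem exists_model_co : Nonempty (CoOne zC) := by
  obtain ⟨e⟩ := Leech.CentOne.quot_omega
  exact exists_co zC Leech.CentOne.orderOf_zC Leech.CentOne.QC Leech.CentOne.gen_fitting_eq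
    Leech.CentOne.QC_extraspecial.1 Leech.CentOne.QC_extraspecial.2 e Leech.CentOne.conj_in

universe u

variable {G : Type u} [Group G] {z : G}

/-- A copy of the monomial group inside a group with the hypothesis, the involution at its place. -/
structure KData [Finite G] (S : CoOne z) where
  /-- the subgroup -/
  N : Subgroup G
  z_mem : z ∈ N
  oc_le : LargeExtra.oc z ≤ N
  /-- its identification with the monomial group -/
  κ : ↥N ≃* ↥N1
  map_z : (κ ⟨z, z_mem⟩ : Spor.Co1) = zC

/-- Homomorphisms of the monomial group and of the centraliser agreeing where both are defined. -/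
def Agree {H : Type u} [Group H] (f : ↥N1 →* H) (g : ↥C1 →* H) : Prop :=
  ∀ (x : Spor.Co1) (h1 : x ∈ N1) (h2 : x ∈ C1), f ⟨x, h1⟩ = g ⟨x, h2⟩

/-- An identification of the centralisers extending the one of the monomial groups. -/
def KData.HasCentIso [Finite G] {S : CoOne z} (K : KData S) : Prop :=
  ∃ e : ↥(Subgroup.centralizer ({z} : Set G)) ≃* ↥C1,
    ∀ (x : G) (h1 : x ∈ K.N) (h2 : x ∈ Subgroup.centralizer ({z} : Set G)),
      (e ⟨x, h2⟩ : Spor.Co1) = K.κ ⟨x, h1⟩

/-- In the images, `u` conjugates `t` to the image of the conjugate in the model. -/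
def Linked (u t : Spor.Co1) {H : Type u} [Group H] (f : ↥N1 →* H) (g : ↥C1 →* H) : Prop :=
  ∀ (hu : u ∈ N1) (ht : t ∈ C1) (h : u * t * u ∈ C1),
    f ⟨u, hu⟩ * g ⟨t, ht⟩ * f ⟨u, hu⟩ = g ⟨u * t * u, h⟩

/-- The model is the universal group of the amalgam with the linking equation of `u` and `t`. -/
def HasTheta (u t : Spor.Co1) (H : Type u) [Group H] : Prop :=
  ∀ (f : ↥N1 →* H) (g : ↥C1 →* H), Agree f g → Linked u t f g →
    ∃ θ : Spor.Co1 →* H, (∀ x : ↥N1, θ x = f x) ∧ ∀ x : ↥C1, θ x = g x

end Cfsg.Agent.CoOneUniq
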