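import Cfsg.Agent.CoOneUniq.CentData
import Cfsg.Agent.CoOneUniq.Defs

/-!
The intersection of the monomial group with the centraliser of the marked involution: a normal
subgroup of order `2 ^ 9` with small abelian subgroups is determined, and the intersection contains a
Sylow 2-subgroup made of commutators and elements of odd order.
-/

set_option autoImplicit false

open Cfsg Cfsg.Agent.Compute Cfsg.Agent.Co1Out
open Cfsg.Agent.Leech.CentOne (toCo zC)
open scoped Classical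

namespace Cfsg.Agent.CoOneUniq.Cent

theorem zC_eq : zC = Sg k0 := by
  refine congrArg toC (Leech.ext_of_oct fun i => Subtype.ext (Leech.toL_injective ?_))
  rw [Leech.CentTwo.tGen.spec, show Leech.toL ((sign0 k0 • Leech.oct i : leechLattice) : GolayPt → ℤ) =
    Leech.toL (Leech.negOn (word k0) (Leech.oct i : GolayPt → ℤ)) by
      refine congrArg Leech.toL (funext fun q => ?_)
      rw [sign0, Leech.signCo0_apply],
    show word k0 = Leech.bitWord 7430140 from funext k0_word]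
  revert i
  decide +kernel

theorem N1_eq : N1 = Nm ⊤ := by
  refine le_antisymm (sup_le ?_ ?_) ?_
  · rw [A1, Subgroup.closure_le]
    rintro _ ⟨c, hc, rfl⟩
    obtain ⟨k, hk, rfl⟩ := (mem_golayCode_iff c).1 hc
    refine ⟨k, hk, 1, Subgroup.mem_top _, ?_⟩
    rw [map_one, mul_one]
    exact congrArg toC (Leech.signCo0_congr (by rw [word, Nat.mod_eq_of_lt hk]) hc (word_mem k))
  · rw [P1, Subgroup.closure_le]
    rintro _ ⟨σ, hσ, rfl⟩
    exact Pm_mem (σ := ⟨σ, hσ⟩) (Subgroup.mem_top _)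
  · rintro _ ⟨k, -, σ, -, rfl⟩
    exact mul_mem (Subgroup.mem_sup_left (Subgroup.subset_closure ⟨word k, word_mem k, rfl⟩))
      (Subgroup.mem_sup_right (Subgroup.subset_closure ⟨σ, σ.2, rfl⟩))

/-- The intersection. -/
abbrev CN : Subgroup Spor.Co1 := N1 ⊓ C1

/-- The permutation of a code. -/
noncomputable def el (c : ℕ) : ↥M24 :=
  if h : inM24B c = true then ⟨rep24.den c, (mem_M24_of_check h).2⟩ else 1

theorem el_spec {c : ℕ} (h : inM24B c = true) : rep24.Ok c ∧ rep24.den c = (el c : Equiv.Perm GolayPt) := by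
  refine ⟨(mem_M24_of_check h).1, ?_⟩
  rw [el, dif_pos h]

theorem stB_spec {c : ℕ} (h : stB c = true) : inM24B c = true ∧ fixB c k0 = true :=
  Bool.and_eq_true_iff.1 h

theorem stab_mem : stB gC = true ∧ stB hC = true ∧ stB kC = true ∧ (∀ t ∈ tA, stB t = true) ∧
    (∀ t ∈ tC, stB t = true) ∧
    ∀ q ∈ sylP, stB q.1 = true ∧ stB q.2.1 = true ∧ stB q.2.2.2.1 = true := by
  have h := stab_check
  simp only [Bool.and_eq_true, List.all_eq_true, List.mem_cons, List.not_mem_nil, or_false,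
    forall_eq_or_imp, forall_eq, and_assoc] at h
  exact h

theorem sg_mem {x : ℕ} (hx : x < 4096) : Sg x ∈ CN := by
  refine ⟨?_, Subgroup.mem_centralizer_singleton_iff.2 ?_⟩
  · rw [N1_eq]; exact Nm_mono bot_le (Sg_mem hx)
  · rw [zC_eq]; exact Sg_comm hx (by decide)

theorem pm_mem {c : ℕ} (h : stB c = true) : Pm (el c) ∈ CN := by
  obtain ⟨h1, h2⟩ := stB_spec h
  refine ⟨?_, Subgroup.mem_centralizer_singleton_iff.2 ?_⟩
  · rw [N1_eq]; exact Pm_mem (Subgroup.mem_top _)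
  · rw [zC_eq]
    obtain ⟨hlt, he⟩ := conj_Sg (el_spec h1).1 (el_spec h1).2 (show k0 < 4096 by decide)
    rw [he, ← Sg_mod hlt, show aK c k0 % 2048 = k0 from Nat.beq_eq.mp h2]

theorem eg_comm {x y : Spor.Co1} (hx : x ∈ Eg) (hy : y ∈ Eg) : x * y = y * x := by
  obtain ⟨a, ha, rfl⟩ := mem_Eg.1 hx
  obtain ⟨b, hb, rfl⟩ := mem_Eg.1 hy
  exact Sg_comm (by omega) (by omega)

theorem conj_pm {c : ℕ} (h : inM24B c = true) {x : ℕ} (hx : x < 4096) :
    Pm (el c) * Sg x * (Pm (el c))⁻¹ = Sg (Nat.mod (aK c x) 2048) := by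
  obtain ⟨h1, h2⟩ := conj_Sg (el_spec h).1 (el_spec h).2 hx
  rw [h2, mul_inv_cancel_right]
  exact (Sg_mod h1).symm

theorem sg_dK {c : ℕ} (h : inM24B c = true) {x : ℕ} (hx : x < 4096) :
    Sg (dK c x) = Pm (el c) * Sg x * (Pm (el c))⁻¹ * Sg x := by
  obtain ⟨h1, -⟩ := conj_Sg (el_spec h).1 (el_spec h).2 hx
  rw [conj_pm h hx, show Nat.mod (aK c x) 2048 = aK c x % 2048 from rfl, Sg_mod h1, ← Sg_xor h1 hx]
  exact Sg_mod (xor_lt h1 hx)

theorem inU_iff {k : ℕ} : inU k = true ↔ k ∈ uL := by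
  simp [inU, List.any_eq_true, Nat.beq_eq]

theorem uL_lt {u : ℕ} (h : u ∈ uL) : u < 2048 := by
  have := uL_facts.1
  simp only [List.all_eq_true, Bool.and_eq_true, Nat.blt_eq] at this
  exact (this u h).1

theorem uL_xor {u v : ℕ} (hu : u ∈ uL) (hv : v ∈ uL) : u ^^^ v ∈ uL := by
  have := uL_facts.1
  simp only [List.all_eq_true, Bool.and_eq_true] at this
  exact inU_iff.1 ((this u hu).2 v hv)

theorem zero_mem_uL : (0 : ℕ) ∈ uL := inU_iff.1 uL_facts.2.2.2.1

theorem k0_mem_uL : k0 ∈ uL := inU_iff.1 uL_facts.2.2.2.2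

/-- The sign changes constant on the octad. -/
def Ug : Set Spor.Co1 := {x | ∃ u ∈ uL, x = Sg u}

theorem Ug_one : (1 : Spor.Co1) ∈ Ug := ⟨0, zero_mem_uL, Sg_zero.symm⟩

theorem Ug_mul {x y : Spor.Co1} (hx : x ∈ Ug) (hy : y ∈ Ug) : x * y ∈ Ug := by
  obtain ⟨u, hu, rfl⟩ := hx
  obtain ⟨v, hv, rfl⟩ := hy
  have := uL_lt hu
  have := uL_lt hv
  exact ⟨u ^^^ v, uL_xor hu hv, (Sg_xor (by omega) (by omega)).symm⟩

theorem Ug_sq {x : Spor.Co1} (hx : x ∈ Ug) : x * x = 1 := by
  obtain ⟨u, hu, rfl⟩ := hx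
  have := uL_lt hu
  exact Sg_sq (by omega)

theorem Ug_eg {x : Spor.Co1} (hx : x ∈ Ug) : x ∈ Eg := by
  obtain ⟨u, hu, rfl⟩ := hx
  have := uL_lt hu
  exact Sg_mem (by omega)

theorem inU_of_Ug {x : ℕ} (hx : x < 4096) (h : Sg x ∈ Ug) : x % 2048 ∈ uL := by
  obtain ⟨u, hu, he⟩ := h
  have h2 := uL_lt hu
  have := Sg_injOn hx (by omega) he
  rw [Nat.mod_eq_of_lt h2] at this
  rwa [this]

/-- A normal subgroup of the intersection like the extraspecial group. -/
structure NormSub (R : Subgroup Spor.Co1) : Prop where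
  le : R ≤ CN
  conj : ∀ c ∈ CN, ∀ r ∈ R, c * r * c⁻¹ ∈ R
  z_mem : zC ∈ R
  card : Nat.card R = 512
  abel : ∀ A : Subgroup Spor.Co1, A ≤ R → (∀ a ∈ A, ∀ b ∈ A, a * b = b * a) → Nat.card A ≤ 32

variable {R : Subgroup Spor.Co1} (hR : NormSub R)
include hR

theorem orb_mem : ∀ (n : ℕ) (x : ℕ), x < 4096 → Sg x ∈ R → ∀ y ∈ orbK gC n x, Sg y ∈ R
  | 0, _, _, _, y, hy => absurd hy (List.not_mem_nil (a := y))
  | n + 1, x, hx, h, y, hy => by
    rcases List.mem_cons.1 hy with rfl | hy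
    · exact h
    · refine orb_mem n _ (lt_of_lt_of_le (Nat.mod_lt _ (by norm_num)) (by norm_num)) ?_ y hy
      show Sg (Nat.mod (aK gC x) 2048) ∈ R
      rw [← conj_pm (stB_spec stab_mem.1).1 hx]
      exact hR.conj _ (pm_mem stab_mem.1) _ h

theorem sg_small {b : ℕ} (hb : b < 2048) (h : Sg b ∈ R) : b ∈ uL := by
  by_contra hn
  have h1 := allBelow_eq_true.mp split_check b hb
  simp only [Bool.or_eq_true, inU_iff, hn, false_or, List.any_eq_true, Bool.and_eq_true,
    Bool.not_eq_true', ← Bool.not_eq_true, Nat.beq_eq] at h1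
  obtain ⟨t, ht, ⟨hy, hy0⟩, hyk⟩ := h1
  have hst := stab_mem.2.2.2.2.1 t ht
  have hd : Sg (dK t b) ∈ R := by
    rw [sg_dK (stB_spec hst).1 (by omega)]
    exact mul_mem (hR.conj _ (pm_mem hst) _ h) h
  have hall : ∀ u ∈ uL, Sg u ∈ R := by
    intro u hu
    by_cases hu0 : u = 0
    · rw [hu0, Sg_zero]; exact one_mem R
    by_cases huk : u = k0
    · rw [huk, ← zC_eq]; exact hR.z_mem
    have h2 := move_check
    simp only [List.all_eq_true, Bool.or_eq_true, Nat.beq_eq, List.any_eq_true] at h2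
    have h3 := (h2 _ hy).resolve_left (not_or.2 ⟨hy0, hyk⟩) u hu
    obtain ⟨y, hy', he⟩ := h3.resolve_left (not_or.2 ⟨hu0, huk⟩)
    have hyR := orb_mem hR 15 _ (by have := uL_lt hy; omega) hd y hy'
    rcases he with rfl | rfl
    · exact hyR
    · have := uL_lt hu
      rw [show Nat.xor u k0 = u ^^^ k0 from rfl, Sg_xor (by omega) (by decide), ← zC_eq] at hyR
      exact (mul_mem_cancel_right hR.z_mem).1 hyR
  have hcard := hR.abel (R ⊓ Eg) inf_le_left fun a ha c hc => eg_comm ha.2 hc.2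
  have hsub : ((insert b uL.toFinset).image Sg : Set Spor.Co1) ⊆ ↑(R ⊓ Eg) := by
    intro x hx
    simp only [Finset.coe_image, Set.mem_image, Finset.coe_insert, Set.mem_insert_iff,
      Finset.mem_coe, List.mem_toFinset] at hx
    obtain ⟨u, rfl | hu, rfl⟩ := hx
    · exact ⟨h, Sg_mem (by omega)⟩
    · have := uL_lt hu
      exact ⟨hall u hu, Sg_mem (by omega)⟩
  have hc := Set.ncard_le_ncard hsub (Set.toFinite _)
  rw [Set.ncard_coe_finset, Finset.card_image_of_injOn, Finset.card_insert_of_notMem (by simpa using hn),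
    List.toFinset_card_of_nodup uL_facts.2.2.1, uL_facts.2.1, ← Nat.card_coe_set_eq] at hc
  · have : (33 : ℕ) ≤ 32 := le_trans hc hcard
    omega
  · intro u hu v hv e
    have hlt : ∀ w ∈ insert b uL.toFinset, w < 2048 := fun w hw => by
      rcases Finset.mem_insert.1 hw with rfl | hw
      · exact hb
      · exact uL_lt (List.mem_toFinset.1 hw)
    have h2 := hlt u hu
    have h3 := hlt v hv
    have := Sg_injOn (by omega) (by omega) e
    rwa [Nat.mod_eq_of_lt h2, Nat.mod_eq_of_lt h3] at this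

theorem eg_small {x : Spor.Co1} (hx : x ∈ R) (he : x ∈ Eg) : x ∈ Ug := by
  obtain ⟨b, hb, rfl⟩ := mem_Eg.1 he
  exact ⟨b, sg_small hR hb hx, rfl⟩

theorem eg_conj {r x : Spor.Co1} (hr : r ∈ R) (hx : x ∈ Eg) :
    ∃ u ∈ Ug, r * x * r⁻¹ = x * u := by
  have hxC : x ∈ CN := by
    obtain ⟨k, hk, rfl⟩ := mem_Eg.1 hx
    exact sg_mem (by omega)
  have hrN : r ∈ Nm ⊤ := by rw [← N1_eq]; exact (hR.le hr).1
  have hrx : r * x * r⁻¹ ∈ Eg := (Subgroup.mem_normalizer_iff.1 (Eg_normal_in hrN) x).1 hx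
  refine ⟨x⁻¹ * (r * x * r⁻¹), eg_small hR ?_ (mul_mem (inv_mem hx) hrx), by group⟩
  rw [show x⁻¹ * (r * x * r⁻¹) = x⁻¹ * r * (x⁻¹)⁻¹ * r⁻¹ by group]
  exact mul_mem (hR.conj _ (inv_mem hxC) _ hr) (inv_mem hr)

theorem oct_fixed {a : ℕ} (ha : a < 4096) {σ : ↥M24} (hr : Sg a * Pm σ ∈ R) :
    ∀ i ∈ octL, ∀ hi : i < 24, (σ : Equiv.Perm GolayPt) (e24 ⟨i, hi⟩) = e24 ⟨i, hi⟩ := by
  have hk : ∀ i ∈ octL, ∀ j, j < 24 → ∃ k ∈ octL, k ≠ i ∧ k ≠ j := by decide +kernel
  have hlt : ∀ i ∈ octL, i < 24 := by decide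
  intro i hi hi24
  set p := e24 ⟨i, hi24⟩ with hp
  have hpi : ptIdx p = i := ptIdx_e24 _
  by_contra hne
  set π := (σ : Equiv.Perm GolayPt)⁻¹ with hπ
  have hne' : π p ≠ p := fun e => hne (by
    conv_lhs => rw [← e]
    exact (σ : Equiv.Perm GolayPt).apply_symm_apply p)
  obtain ⟨k, hkO, hki, hkj⟩ := hk i hi (ptIdx (π p)) (ptIdx_lt _)
  set q := e24 ⟨k, hlt k hkO⟩ with hq
  have hqk : ptIdx q = k := ptIdx_e24 _
  have hlj : ptIdx (π q) ≠ ptIdx (π p) := fun e => hki (by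
    rw [← hqk, ← hpi, π.injective (ptIdx_injective e)])
  have hpar := par_check
  simp only [List.all_eq_true, allBelow_eq_true, Bool.or_eq_true, Nat.beq_eq, List.any_eq_true] at hpar
  obtain ⟨b, hb, hodd⟩ := (hpar i hi k hkO (ptIdx (π p)) (ptIdx_lt _) (ptIdx (π q)) (ptIdx_lt _)).resolve_left
    (by
      rintro (((e | e) | e) | e)
      · exact hne' (ptIdx_injective (e.symm.trans hpi.symm))
      · exact hki e
      · exact hkj e
      · exact hlj e)
  have hb12 : b < 12 := List.mem_range.1 hb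
  have hx : 2 ^ b < 4096 := lt_of_lt_of_le (Nat.pow_lt_pow_right (by norm_num) hb12) (by norm_num)
  obtain ⟨x', hx', he, hw⟩ := exists_conj σ hx
  have hu : Sg (2 ^ b ^^^ x') ∈ Ug := by
    obtain ⟨u, hu, hrx⟩ := eg_conj hR hr (Sg_mem hx)
    have h1 : Sg a * Pm σ * Sg (2 ^ b) * (Sg a * Pm σ)⁻¹ = Sg x' := by
      have h2 : Pm σ * Sg (2 ^ b) * (Pm σ)⁻¹ = Sg x' := by
        rw [mul_inv_eq_iff_eq_mul] at he
        rw [mul_inv_eq_iff_eq_mul]
        exact (map_mul toC _ _).symm.trans ((congrArg toC he).trans (map_mul toC _ _))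
      rw [show Sg a * Pm σ * Sg (2 ^ b) * (Sg a * Pm σ)⁻¹ =
        Sg a * (Pm σ * Sg (2 ^ b) * (Pm σ)⁻¹) * (Sg a)⁻¹ by group, h2, Sg_comm ha hx',
        mul_inv_cancel_right]
    rw [h1] at hrx
    rw [Sg_xor hx hx', hrx, ← mul_assoc, Sg_sq hx, one_mul]
    exact hu
  have hlt' := xor_lt hx hx'
  have hc := allBelow_eq_true.mp const_check _ hlt'
  simp only [Bool.or_eq_true, Bool.not_eq_true', List.all_eq_true, beq_iff_eq] at hc
  have hc' := (hc.resolve_left (by
    intro h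
    rw [show inU (Nat.mod (2 ^ b ^^^ x') 2048) = true from inU_iff.2 (inU_of_Ug hlt' hu)] at h
    exact Bool.noConfusion h)) i hi k hkO
  rw [cw_xor, Nat.testBit_xor, Nat.testBit_xor] at hc'
  have key : ∀ r : GolayPt, (cw x').testBit (ptIdx r) = (cw (2 ^ b)).testBit (ptIdx (π r)) := fun r => by
    have := congrFun hw r
    simp only [word, Nat.mod_eq_of_lt hx', Nat.mod_eq_of_lt hx, decW, ← hπ] at this
    revert this
    cases (cw x').testBit (ptIdx r) <;> cases (cw (2 ^ b)).testBit (ptIdx (π r)) <;> simp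
  have k1 := key p
  have k2 := key q
  rw [hpi] at k1
  rw [hqk] at k2
  rw [k1, k2] at hc'
  simp only [par] at hodd
  revert hodd hc'
  cases (cw (2 ^ b)).testBit i <;> cases (cw (2 ^ b)).testBit k <;>
    cases (cw (2 ^ b)).testBit (ptIdx (π p)) <;> cases (cw (2 ^ b)).testBit (ptIdx (π q)) <;> decide

theorem perm_trans {a : ℕ} (ha : a < 4096) {σ : ↥M24} (hr : Sg a * Pm σ ∈ R) :
    ∃ t ∈ tA, σ = el t := by
  have hO := oct_fixed hR ha hr
  set q := ptIdx ((σ : Equiv.Perm GolayPt) (e24 ⟨1, by norm_num⟩)) with hq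
  have hqO : q ∉ octL := fun hm => by
    have h24 : q < 24 := ptIdx_lt _
    have e := hO q hm h24
    have e2 : e24 ⟨q, h24⟩ = (σ : Equiv.Perm GolayPt) (e24 ⟨1, by norm_num⟩) :=
      ptIdx_injective (by rw [ptIdx_e24])
    rw [e2] at e
    have e3 := congrArg ptIdx ((σ : Equiv.Perm GolayPt).injective e)
    rw [← hq, ptIdx_e24] at e3
    rw [e3] at hm
    revert hm
    decide
  have h1 := allBelow_eq_true.mp tA_orbit q (ptIdx_lt _)
  simp only [Bool.or_eq_true, List.contains_iff_mem, hqO, false_or, List.any_eq_true, Nat.beq_eq] at h1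
  obtain ⟨t, ht, hte⟩ := h1
  obtain ⟨hok, hden⟩ := el_spec (stB_spec (stab_mem.2.2.2.1 t ht)).1
  have hto : ∀ i ∈ octL, rep24.act t i = i := by
    have := tA_oct
    simp only [List.all_eq_true, Nat.beq_eq] at this
    exact this t ht
  suffices hs : (el t)⁻¹ * σ = 1 from ⟨t, ht, ((inv_mul_eq_one (G := ↥M24)).1 hs).symm⟩
  refine Subtype.ext ?_
  refine eq_one_of_propB steps fixM prop_check ((el t)⁻¹ * σ).2 fun p hp => ?_
  have hb := allBelow_eq_true.mp fixM_bits (ptIdx p) (ptIdx_lt p)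
  simp only [hp, Bool.not_true, Bool.false_or, Bool.or_eq_true, List.contains_iff_mem, Nat.beq_eq] at hb
  show ((el t : Equiv.Perm GolayPt)⁻¹ * σ) p = p
  rw [Equiv.Perm.mul_apply, Equiv.Perm.inv_def, Equiv.symm_apply_eq]
  refine ptIdx_injective ?_
  rw [← hden, ptIdx_den hok]
  rcases hb with hb | hb
  · rw [hto _ hb]
    have hpe : p = e24 ⟨ptIdx p, ptIdx_lt p⟩ := ptIdx_injective (by rw [ptIdx_e24])
    rw [hpe, hO _ hb (ptIdx_lt p)]
  · rw [hb, hte, hq]
    congr 2
    exact ptIdx_injective (by rw [ptIdx_e24, hb])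

omit hR

/-- The product of the first conjugates. -/
def twist {G : Type*} [Group G] (H : G) : ℕ → G → G
  | 0, _ => 1
  | n + 1, r => r * twist H n (H * r * H⁻¹)

theorem twist_mem (hR : NormSub R) {H : Spor.Co1} (hH : H ∈ CN) :
    ∀ n r, r ∈ R → twist H n r ∈ R
  | 0, _, _ => one_mem R
  | n + 1, r, hr => mul_mem hr (twist_mem hR hH n _ (hR.conj H hH r hr))

theorem twist_eq (hR : NormSub R) {c : ℕ} (hc : stB c = true) :
    ∀ (n a : ℕ) (P : Spor.Co1), a < 2048 → Sg a * P ∈ R →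
      nK c n a < 2048 ∧ ∃ u ∈ Ug, twist (Pm (el c)) n (Sg a * P) = Sg (nK c n a) * u * twist (Pm (el c)) n P
  | 0, _, _, _, _ => ⟨show (0 : ℕ) < 2048 by norm_num, 1, Ug_one,
      by rw [show nK c 0 _ = 0 from rfl, Sg_zero]; simp [twist]⟩
  | n + 1, a, P, ha, hr => by
    set H := Pm (el c) with hH
    have hconj : H * (Sg a * P) * H⁻¹ = Sg (Nat.mod (aK c a) 2048) * (H * P * H⁻¹) := by
      rw [← conj_pm (stB_spec hc).1 (by omega), hH]
      group
    have ha' : Nat.mod (aK c a) 2048 < 2048 := Nat.mod_lt _ (by norm_num)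
    obtain ⟨hlt, u, hu, he⟩ := twist_eq hR hc n _ _ ha' (hconj ▸ hR.conj H (pm_mem hc) _ hr)
    refine ⟨Nat.xor_lt_two_pow (n := 11) ha hlt, ?_⟩
    set e := Sg (nK c n (Nat.mod (aK c a) 2048)) with hedef
    have heE : e ∈ Eg := Sg_mem (by omega)
    have hP : ∀ x ∈ Eg, ∃ w ∈ Ug, P * x * P⁻¹ = x * w := fun x hx => by
      obtain ⟨w, hw, h⟩ := eg_conj hR hr hx
      refine ⟨w, hw, ?_⟩
      have hc' : x * w * Sg a = Sg a * (x * w) :=
        eg_comm (mul_mem hx (Ug_eg hw)) (Sg_mem (by omega))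
      calc P * x * P⁻¹ = (Sg a)⁻¹ * (Sg a * P * x * (Sg a * P)⁻¹) * Sg a := by group
        _ = x * w := by rw [h, mul_assoc, hc', inv_mul_cancel_left]
    obtain ⟨w₁, hw₁, h1⟩ := hP e heE
    obtain ⟨w₂, hw₂, h2⟩ := hP u (Ug_eg hu)
    refine ⟨w₁ * (u * w₂), Ug_mul hw₁ (Ug_mul hu hw₂), ?_⟩
    rw [twist, twist, hconj, he, show nK c (n + 1) a = a ^^^ nK c n (Nat.mod (aK c a) 2048) from rfl,
      Sg_xor (by omega) (by omega), ← hedef]
    calc Sg a * P * (e * u * twist H n (H * P * H⁻¹))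
        = Sg a * (P * e * P⁻¹) * (P * u * P⁻¹) * (P * twist H n (H * P * H⁻¹)) := by group
      _ = _ := by rw [h1, h2]; group

theorem twist_three {G : Type*} [Group G] (H P : G) :
    twist H 3 P = (P * H) * (P * H) * (P * H) * (H * H * H)⁻¹ := by
  simp only [twist]
  group

theorem twist_five {G : Type*} [Group G] (H P : G) : twist H 5 P =
    (P * H) * (P * H) * (P * H) * (P * H) * (P * H) * (H * H * H * H * H)⁻¹ := by
  simp only [twist]
  group

theorem pC_spec {c : ℕ} (hc : rep24.Ok c) : ∀ n,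
    rep24.Ok (pC c n) ∧ rep24.den (pC c n) = rep24.den c ^ n
  | 0 => ⟨rep24.ok_one, by rw [pow_zero]; exact rep24.den_one⟩
  | n + 1 => by
    obtain ⟨h1, h2⟩ := pC_spec hc n
    refine ⟨rep24.ok_mul _ _ hc h1, ?_⟩
    rw [show pC c (n + 1) = rep24.mul c (pC c n) from rfl, rep24.den_mul _ _ hc h1, h2, pow_succ']

theorem el_pow {c : ℕ} (h : inM24B c = true) {n : ℕ} (he : sameB (pC c n) rep24.one = true) :
    el c ^ n = 1 := by
  obtain ⟨h1, h2⟩ := pC_spec (el_spec h).1 n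
  refine Subtype.ext ?_
  rw [SubmonoidClass.coe_pow, ← (el_spec h).2, ← h2, den_eq_of_same h1 rep24.ok_one he, rep24.den_one]
  rfl

theorem el_mul_pow {c d : ℕ} (h : inM24B c = true) (h' : inM24B d = true) {n : ℕ}
    (he : sameB (pC (rep24.mul c d) n) rep24.one = true) : (el c * el d) ^ n = 1 := by
  have hm := rep24.ok_mul _ _ (el_spec h).1 (el_spec h').1
  obtain ⟨h1, h2⟩ := pC_spec hm n
  refine Subtype.ext ?_
  rw [SubmonoidClass.coe_pow, Subgroup.coe_mul, ← (el_spec h).2, ← (el_spec h').2,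
    ← rep24.den_mul _ _ (el_spec h).1 (el_spec h').1, ← h2, den_eq_of_same h1 rep24.ok_one he, rep24.den_one]
  rfl

/-- The determined subgroup. -/
noncomputable def WQ : Finset Spor.Co1 :=
  (uL.toFinset ×ˢ tA.toFinset).image fun p => Sg p.1 * Pm (el p.2)

theorem card_WQ : WQ.card ≤ 512 := by
  refine Finset.card_image_le.trans ?_
  rw [Finset.card_product, List.toFinset_card_of_nodup uL_facts.2.2.1, uL_facts.2.1]
  have : tA.toFinset.card ≤ 16 := (List.toFinset_card_le _).trans (by decide)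
  omega

theorem coe_eq (hR : NormSub R) : (R : Set Spor.Co1) = ↑WQ := by
  refine Set.eq_of_subset_of_ncard_le (fun r hr => ?_) ?_ (Finset.finite_toSet _)
  · have hrN : r ∈ Nm ⊤ := by rw [← N1_eq]; exact (hR.le hr).1
    obtain ⟨a₀, ha₀, σ, -, rfl⟩ := hrN
    obtain ⟨t, ht, rfl⟩ := perm_trans hR ha₀ hr
    rw [← Sg_mod ha₀] at hr ⊢
    set a := a₀ % 2048
    have ha : a < 2048 := Nat.mod_lt _ (by norm_num)
    refine Finset.mem_coe.2 (Finset.mem_image.2 ⟨(a, t), ?_, rfl⟩)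
    simp only [Finset.mem_product, List.mem_toFinset, ht, and_true]
    have htB := (stB_spec (stab_mem.2.2.2.1 t ht)).1
    have hhB := (stB_spec stab_mem.2.1).1
    have hkB := (stB_spec stab_mem.2.2.1).1
    obtain ⟨t3, t5, tt⟩ := twist_check
    simp only [List.all_eq_true, Bool.and_eq_true] at tt
    have hN : ∀ (c n : ℕ), stB c = true → twist (Pm (el c)) n (Pm (el t)) = 1 → inU (nK c n a) = true := by
      intro c n hc h1
      obtain ⟨hlt, u, hu, he⟩ := twist_eq hR hc n a _ ha hr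
      rw [h1, mul_one] at he
      have hm := twist_mem hR (pm_mem hc) n _ hr
      rw [he] at hm
      have hU := eg_small hR hm (mul_mem (Sg_mem (by omega)) (Ug_eg hu))
      have := inU_of_Ug (by omega) (show Sg (nK c n a) ∈ Ug by
        rw [← mul_one (Sg _), ← Ug_sq hu, ← mul_assoc]
        exact Ug_mul hU hu)
      rw [Nat.mod_eq_of_lt hlt] at this
      exact inU_iff.2 this
    have hh : inU (nK hC 3 a) = true := hN hC 3 stab_mem.2.1 (by
      rw [twist_three, ← map_mul, ← map_mul, ← map_mul, ← map_mul, ← map_mul, ← map_inv, ← map_mul,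
        ← pow_three', ← pow_three', el_mul_pow htB hhB (tt t ht).1, el_pow hhB t3, inv_one, mul_one, map_one])
    have hk : inU (nK kC 5 a) = true := hN kC 5 stab_mem.2.2.1 (by
      have e1 : ∀ x : ↥M24, x * x * x * x * x = x ^ 5 := fun x => by simp [pow_succ]
      rw [twist_five]
      simp only [← map_mul, ← map_inv]
      rw [e1, e1, el_mul_pow htB hkB (tt t ht).2, el_pow hkB t5, inv_one, mul_one, map_one])
    have := allBelow_eq_true.mp norm_check a ha
    simp only [hh, hk, Bool.not_true, Bool.or_false] at this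
    exact inU_iff.1 this
  · rw [Set.ncard_coe_finset, ← Nat.card_coe_set_eq]
    exact card_WQ.trans hR.card.ge

theorem unique {R₁ R₂ : Subgroup Spor.Co1} (h1 : NormSub R₁) (h2 : NormSub R₂) : R₁ = R₂ :=
  SetLike.coe_injective ((coe_eq h1).trans (coe_eq h2).symm)

/-! The Sylow subgroup. -/

/-- Two conditions forcing a Sylow subgroup inside. -/
theorem exists_sylow_le (L : Subgroup Spor.Co1)
    (hcomm : ∀ x ∈ CN, ∀ y ∈ CN, x * y * x⁻¹ * y⁻¹ ∈ L)
    (hodd : ∀ x ∈ CN, ∀ m : ℕ, m % 2 = 1 → x ^ m = 1 → x ∈ L) :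
    ∃ P : Subgroup Spor.Co1, P ≤ CN ∧ P ≤ L ∧ Nat.card P = 2 ^ 21 := by
  obtain ⟨hτ, hk1, hfix, hlen, hrel, hfac⟩ := syl_check
  have hSg : ∀ n, n ≤ 11 → ∀ k < 2 ^ n, Sg k ∈ L := by
    intro n
    induction n with
    | zero =>
      intro _ k hk
      rw [show k = 0 by simpa using hk, Sg_zero]; exact one_mem _
    | succ n ih =>
      intro hn k hk
      have hb : Sg (2 ^ n) ∈ L := by
        have hc := allBelow_eq_true.mp combo_check n (show n < 11 by omega)
        simp only [Bool.and_eq_true, Nat.beq_eq, List.all_eq_true, Nat.blt_eq] at hc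
        obtain ⟨he, hq⟩ := hc
        rw [he]
        have key : ∀ l : List (ℕ × ℕ), (∀ q ∈ l, stB q.1 = true ∧ q.2 < 11) →
            (l.map fun q => dK q.1 (2 ^ q.2)).foldr Nat.xor 0 < 4096 ∧
            Sg ((l.map fun q => dK q.1 (2 ^ q.2)).foldr Nat.xor 0) ∈ L := by
          intro l
          induction l with
          | nil => exact fun _ => ⟨by norm_num, by simp only [List.map_nil, List.foldr_nil, Sg_zero]; exact one_mem _⟩
          | cons q l ihl =>
            intro hl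
            obtain ⟨h1, h2⟩ := ihl fun p hp => hl p (List.mem_cons_of_mem _ hp)
            obtain ⟨hqs, hq2⟩ := hl q List.mem_cons_self
            have hx : 2 ^ q.2 < 4096 :=
              lt_of_lt_of_le (Nat.pow_lt_pow_right (by norm_num) hq2) (by norm_num)
            have hd : dK q.1 (2 ^ q.2) < 4096 := lt_of_lt_of_le (Nat.mod_lt _ (by norm_num)) (by norm_num)
            refine ⟨xor_lt hd h1, ?_⟩
            simp only [List.map_cons, List.foldr_cons]
            rw [show ∀ x y : ℕ, Nat.xor x y = x ^^^ y from fun _ _ => rfl, Sg_xor hd h1]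
            refine mul_mem ?_ h2
            rw [sg_dK (stB_spec hqs).1 hx]
            conv => arg 2; arg 2; rw [← Sg_inv hx]
            exact hcomm _ (pm_mem hqs) _ (sg_mem hx)
        exact (key _ hq).2
      by_cases hkn : k < 2 ^ n
      · exact ih (by omega) k hkn
      · have hlow : k ^^^ 2 ^ n < 2 ^ n := by
          apply Nat.lt_pow_two_of_testBit
          intro j hj
          rw [Nat.testBit_xor, Nat.testBit_two_pow]
          rcases eq_or_lt_of_le hj with rfl | hj'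
          · rw [Nat.testBit_eq_decide_div_mod_eq]
            have : k / 2 ^ n = 1 := Nat.div_eq_of_lt_le (by omega) (by rw [pow_succ] at hk; omega)
            simp [this]
          · have : k.testBit j = false :=
              Nat.testBit_lt_two_pow (lt_of_lt_of_le hk (Nat.pow_le_pow_right (by norm_num) hj'))
            simp [this, Nat.ne_of_lt hj']
        have h2 : 2 ^ n < 4096 := lt_of_le_of_lt (Nat.pow_le_pow_right (by norm_num) (show n ≤ 11 by omega)) (by norm_num)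
        rw [show k = (k ^^^ 2 ^ n) ^^^ 2 ^ n by simp [Nat.xor_assoc], Sg_xor (by omega) h2]
        exact mul_mem (ih (by omega) _ hlow) hb
  have hEg : ∀ k < 4096, Sg k ∈ L := fun k hk => by
    rw [← Sg_mod hk]; exact hSg 11 le_rfl _ (Nat.mod_lt _ (by norm_num))
  set T := Pm (el tauC) with hT
  have hSylK : Ks ≤ Subgroup.comap Pm ((L ⊓ CN).comap (MulAut.conj T).toMonoidHom) := by
    intro σ hσ
    have hmem : (σ : Equiv.Perm GolayPt) ∈ rep24.chainGroup syl2FChain := Subgroup.mem_subgroupOf.1 hσ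
    set D := (Subgroup.comap Pm ((L ⊓ CN).comap (MulAut.conj T).toMonoidHom)).map M24.subtype with hD
    have hle : rep24.chainGroup syl2FChain ≤ D := by
      rw [Rep.chainGroup, Rep.span, Subgroup.closure_le]
      rintro _ ⟨s, hs, rfl⟩
      obtain ⟨i, hi, rfl⟩ := List.getElem_of_mem hs
      have hsB : inM24B (topGens syl2FChain)[i] = true := List.all_eq_true.1 syl2F_checks.2.1 _ (List.getElem_mem hi)
      have hr := allBelow_eq_true.mp hrel i (hlen ▸ hi)
      rw [List.getD_eq_getElem _ _ hi, List.getD_eq_getElem _ _ (hlen ▸ hi)] at hr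
      set q := sylP[i]'(hlen ▸ hi) with hq
      obtain ⟨hs1, hs2, hs3⟩ := stab_mem.2.2.2.2.2 q (List.getElem_mem _)
      simp only [List.all_eq_true, Bool.and_eq_true, Nat.beq_eq] at hfac
      obtain ⟨⟨⟨⟨hab, ham⟩, hbm⟩, hmo⟩, hno⟩ := hfac q (List.getElem_mem _)
      have hmul : el q.1 = el q.2.1 * el q.2.2.2.1 := Subtype.ext (by
        have o1 := el_spec (stB_spec hs1).1
        have o2 := el_spec (stB_spec hs2).1
        have o3 := el_spec (stB_spec hs3).1
        rw [Subgroup.coe_mul, ← o1.2, ← o2.2, ← o3.2, ← rep24.den_mul _ _ o2.1 o3.1]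
        exact den_eq_of_same o1.1 (rep24.ok_mul _ _ o2.1 o3.1) hab)
      have hL : Pm (el q.1) ∈ L := by
        rw [hmul, map_mul]
        refine mul_mem (hodd _ (pm_mem hs2) _ hmo ?_) (hodd _ (pm_mem hs3) _ hno ?_)
        · rw [← map_pow, el_pow (stB_spec hs2).1 ham, map_one]
        · rw [← map_pow, el_pow (stB_spec hs3).1 hbm, map_one]
      refine ⟨el (topGens syl2FChain)[i], ?_, ((el_spec hsB).2).symm⟩
      show (MulAut.conj T) (Pm (el (topGens syl2FChain)[i])) ∈ L ⊓ CN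
      have hconj : el tauC * el (topGens syl2FChain)[i] = el q.1 * el tauC := Subtype.ext (by
        have o1 := el_spec hτ
        have o2 := el_spec hsB
        have o3 := el_spec (stB_spec hs1).1
        rw [Subgroup.coe_mul, Subgroup.coe_mul, ← o1.2, ← o2.2, ← o3.2,
          ← rep24.den_mul _ _ o1.1 o2.1, ← rep24.den_mul _ _ o3.1 o1.1]
        exact den_eq_of_same (rep24.ok_mul _ _ o1.1 o2.1) (rep24.ok_mul _ _ o3.1 o1.1) hr)
      rw [MulAut.conj_apply, hT, ← map_mul, ← map_inv, ← map_mul, hconj, mul_inv_cancel_right]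
      exact ⟨hL, pm_mem hs1⟩
    obtain ⟨τ, hτm, hτe⟩ := hle hmem
    rwa [← Subtype.ext (hτe : (τ : Equiv.Perm GolayPt) = σ)]
  refine ⟨(Nm Ks).map (MulAut.conj T).toMonoidHom, ?_, ?_, ?_⟩
  rotate_left 2
  · rw [Subgroup.card_map_of_injective (MulAut.conj T).injective, card_Nm, card_Ks]
    norm_num
  all_goals
    rintro _ ⟨x, ⟨k, hk, σ, hσ, rfl⟩, rfl⟩
    have h1 := hSylK hσ
    have h2 : (MulAut.conj T) (Sg k) = Sg (Nat.mod (aK tauC k) 2048) := conj_pm hτ hk
    show (MulAut.conj T) (Sg k * Pm σ) ∈ _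
    rw [map_mul, h2]
  · exact mul_mem (sg_mem (lt_of_lt_of_le (Nat.mod_lt _ (by norm_num)) (by norm_num))) h1.2
  · exact mul_mem (hEg _ (lt_of_lt_of_le (Nat.mod_lt _ (by norm_num)) (by norm_num))) h1.1

end Cfsg.Agent.CoOneUniq.Cent
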