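import Cfsg.Agent.CoOneUniq.Model
import Cfsg.Agent.Leech.MonoMax
import Cfsg.Agent.S1572

/-!
# Generation of the model and of the centraliser by the monomial group and one sextet element
-/

set_option autoImplicit false
set_option maxRecDepth 100000

open Cfsg

namespace Cfsg.Agent.CoOneUniq

open Cfsg.Agent.Leech (LGen monGen KeepsCross permCo0 signCo0)
open Cfsg.Agent.Leech.CentOne (toCo zC CE oGens)
open Cfsg.Agent.Leech.CentTwo (gSext gMX gX CT kGens qGens)

/-- The sextet element. -/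
noncomputable def tX : Spor.Co1 := toCo gSext.xi

theorem toCo_gX : toCo gX.g = toCo gMX.g * tX := map_mul toCo _ _

theorem toCo_mon_mem {P Q : List ℕ} {m : ℕ} {h1 h2 hP hσ hm} :
    toCo (monGen P Q m h1 h2 hP hσ hm).g ∈ N1 :=
  MLet.mem ⟨P, Q, m, h1, h2, hP, hσ, hm⟩

/-- The other generators are monomial. -/
theorem gens_mem : ∀ a ∈ oGens ++ kGens ++ qGens, toCo a.g ∈ N1 ∨ a.g = gX.g := by
  intro a ha
  simp only [oGens, kGens, qGens, List.mem_append, List.mem_cons, List.not_mem_nil, or_false] at ha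
  rcases ha with ((rfl | rfl | rfl | rfl | rfl | rfl | rfl) |
    (rfl | rfl | rfl | rfl | rfl | rfl | rfl | rfl | rfl)) | (rfl | rfl | rfl | rfl) <;>
    first
      | exact Or.inr rfl
      | exact Or.inl toCo_mon_mem

theorem gens_CE : ∀ a ∈ oGens ++ kGens ++ qGens, a.g ∈ CE := by
  intro a ha
  simp only [List.mem_append] at ha
  rcases ha with (ha | ha) | ha
  · exact Leech.CentOne.oGens_mem a ha
  · exact Leech.CentOne.CT_le_CE (Leech.CentTwo.kGens_mem a ha)
  · exact Leech.CentOne.CT_le_CE (Leech.CentTwo.qGens_mem a ha)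

theorem tX_mem : tX ∈ C1 := by
  have h : ∀ a ∈ oGens, toCo a.g ∈ C1 := fun a ha =>
    Leech.CentOne.toCo_mem_cent ⟨a.g, Leech.CentOne.oGens_mem a ha⟩
  have h1 := h gX (by simp [oGens])
  have h2 := h gMX (by simp [oGens])
  rw [toCo_gX] at h1
  simpa using mul_mem (inv_mem h2) h1

section CE
open Cfsg.Agent.Leech Cfsg.Agent.Leech.CentTwo

/-- The subgroup of the twenty generators. -/
noncomputable def LE : Subgroup ↥Co0 :=
  Subgroup.closure {x | ∃ a ∈ oGens ++ kGens ++ qGens, x = a.g}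

theorem gen_mem_LE {a : LGen} (ha : a ∈ oGens ++ kGens ++ qGens) : a.g ∈ LE :=
  Subgroup.subset_closure ⟨a, ha, rfl⟩

theorem kEl_mem_LE (i : ℕ) : ∀ (l : List (↥act.ker × (List ℤ → List ℤ))) (k : ℕ),
    (∀ x ∈ l, x.1.1.1 ∈ LE) → (kEl i l k).1.1 ∈ LE
  | [], _, _ => by rw [kEl]; exact one_mem LE
  | x :: l, k, h => by
    rw [kEl]
    have h1 := h x List.mem_cons_self
    have h2 := kEl_mem_LE i l (k + 1) fun y hy => h y (List.mem_cons_of_mem _ hy)
    split_ifs
    · exact mul_mem h1 h2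
    · exact h2

theorem CT_le_LE : CT ≤ LE := by
  intro g hg
  set S : Subgroup ↥CT := LE.subgroupOf CT
  have hker : act.ker ≤ S := fun x hx => by
    obtain ⟨i, hi⟩ := kG_surjective ⟨x, hx⟩
    rw [show x = (kG i).1 by rw [hi]]
    refine kEl_mem_LE i kK 0 fun y hy => ?_
    obtain ⟨a, -, rfl⟩ := List.mem_map.1 hy
    exact gen_mem_LE (List.mem_append_left _ (List.mem_append_right _ a.2))
  have hq : Model.genGroup 63 pairPerms ≤ S.map act := by
    refine (Subgroup.closure_le _).2 ?_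
    rintro β ⟨P, hP, hβ⟩
    obtain ⟨a, ha, rfl⟩ := List.getElem_of_mem hP
    have ha4 : a < qGens.length := ha
    refine ⟨⟨qGens[a].g, qGens_mem _ (List.getElem_mem ha4)⟩,
      gen_mem_LE (List.mem_append_right _ (List.getElem_mem ha4)),
      Equiv.ext fun j => actFun_eq _ _ _ ?_⟩
    have h := List.all_eq_true.1 (List.all_eq_true.1 qAct_check a (List.mem_range.2 ha)) j
      (List.mem_finRange j)
    simp only [Bool.or_eq_true] at h
    have hk : (Fin.ofNat 63 (Model.pk 10 (pairPerms.getD a 0) j)) = β j := by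
      rw [List.getD_eq_getElem?_getD, List.getElem?_eq_getElem ha, Option.getD_some, ← hβ j]
      exact Fin.ext (Nat.mod_eq_of_lt (β j).2)
    have hf : (qGens.map LGen.f).getD a id = qGens[a].f := by
      simp [List.getD_eq_getElem?_getD, ha4]
    rw [hk, hf] at h
    rcases h with e | e
    · exact Or.inl (Subtype.ext (Leech.toL_injective ((qGens[a].spec _).trans (Model.eq_of_eqZ e))))
    · exact Or.inr (Subtype.ext (Leech.toL_injective ((qGens[a].spec _).trans (Model.eq_of_eqZ e))))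
  have himg : act ⟨g, hg⟩ ∈ S.map act := hq (counts.2.2.1 ▸ ⟨⟨g, hg⟩, rfl⟩)
  obtain ⟨y, hy, hye⟩ := himg
  have hm : y⁻¹ * ⟨g, hg⟩ ∈ S := hker (by rw [MonoidHom.mem_ker, map_mul, map_inv, hye, inv_mul_cancel])
  have : (⟨g, hg⟩ : ↥CT) ∈ S := by simpa using mul_mem hy hm
  exact this

end CE

theorem LE_eq : LE = CE := by
  have := Leech.finite_co0
  have hle : LE ≤ CE := (Subgroup.closure_le _).2 (by rintro x ⟨a, ha, rfl⟩; exact gens_CE a ha)
  refine Subgroup.eq_of_le_of_card_ge hle ?_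
  rw [Leech.CentOne.card_CE]
  have hinf : LE ⊓ MulAction.stabilizer ↥Co0 Spor.leechU = CT := by
    refine le_antisymm ?_ (le_inf CT_le_LE ?_)
    · exact Leech.CentOne.CE_inf_stab ▸ inf_le_inf_right _ hle
    · exact Leech.CentOne.CE_inf_stab ▸ inf_le_right
  have horb : 240 ≤ (MulAction.orbit ↥LE Spor.leechU).ncard :=
    Leech.le_ncard_orbit oGens LE
      (fun a ha => gen_mem_LE (List.mem_append_left _ (List.mem_append_left _ ha)))
      Spor.leechU (Leech.toL Spor.vecU) rfl Leech.CentOne.rootOps (oGens.map LGen.f) rfl 65539 240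
      (by decide +kernel)
  rw [Leech.card_orbit_stab LE Spor.leechU, hinf, Leech.CentTwo.counts.2.1]
  calc 178362777600 = 240 * 743178240 := by norm_num
    _ ≤ _ := Nat.mul_le_mul_right _ horb

/-- The centraliser is generated by its monomial part and the sextet element. -/
theorem C1_gen : C1 ≤ Subgroup.closure (((N1 ⊓ C1 : Subgroup Spor.Co1) : Set Spor.Co1) ∪ {tX}) := by
  intro y hy
  obtain ⟨g, hg⟩ := Leech.CentOne.phi_surjective ⟨y, hy⟩
  have hg' : toCo g.1 = y := congrArg Subtype.val hg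
  set K := Subgroup.closure (((N1 ⊓ C1 : Subgroup Spor.Co1) : Set Spor.Co1) ∪ {tX})
  have hle : LE ≤ K.comap toCo := by
    refine (Subgroup.closure_le _).2 ?_
    rintro x ⟨a, ha, rfl⟩
    have hc : toCo a.g ∈ C1 := Leech.CentOne.toCo_mem_cent ⟨a.g, gens_CE a ha⟩
    rcases gens_mem a ha with h | h
    · exact Subgroup.subset_closure (Or.inl ⟨h, hc⟩)
    · show toCo a.g ∈ K
      rw [h, toCo_gX]
      refine mul_mem (Subgroup.subset_closure (Or.inl ⟨toCo_mon_mem, ?_⟩))
        (Subgroup.subset_closure (Or.inr rfl))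
      exact Leech.CentOne.toCo_mem_cent ⟨gMX.g, Leech.CentOne.oGens_mem gMX (by simp [oGens])⟩
  rw [← hg']
  exact hle (LE_eq.symm ▸ g.2)

theorem keeps_mem {g : ↥Co0} (h : KeepsCross g) : toCo g ∈ N1 := by
  obtain ⟨σ, hσ, c, hc, rfl⟩ := Leech.exists_of_stdFrame g fun i => h _ (Leech.oct_mem_stdCross i)
  exact mem_N1_iff.2 ⟨Multiplicative.ofAdd ⟨c, hc⟩, ⟨σ, hσ⟩, map_mul toCo _ _⟩

theorem xi_moves : ¬ KeepsCross gSext.xi := fun h => by
  obtain ⟨i, s, -, hi⟩ := h _ (Leech.oct_mem_stdCross none)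
  have hne : ((gSext.xi • Leech.oct none : leechLattice) : GolayPt → ℤ) none ≠ 0 ∧
      ((gSext.xi • Leech.oct none : leechLattice) : GolayPt → ℤ) (some 0) ≠ 0 := by decide +kernel
  rw [hi] at hne
  have h1 : (none : GolayPt) = i := by
    by_contra e
    exact hne.1 (Pi.single_eq_of_ne (M := fun _ : GolayPt => ℤ) e s)
  subst h1
  exact hne.2 (Pi.single_eq_of_ne (M := fun _ : GolayPt => ℤ) (Option.some_ne_none 0) s)

/-- The model is generated by the monomial group and the sextet element. -/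
theorem co_gen : Subgroup.closure ((N1 : Set Spor.Co1) ∪ {tX}) = ⊤ := by
  set K := (Subgroup.closure ((N1 : Set Spor.Co1) ∪ {tX})).comap toCo with hK
  have hkeep : ∀ g, KeepsCross g → g ∈ K := fun g hg =>
    Subgroup.subset_closure (Or.inl (keeps_mem hg))
  let H : Subgroup ↥Co0 :=
    { carrier := {g | KeepsCross g ∧ KeepsCross g⁻¹}
      mul_mem' := fun ha hb => ⟨ha.1.mul hb.1, by rw [mul_inv_rev]; exact hb.2.mul ha.2⟩
      one_mem' := ⟨fun v hv => by rwa [one_smul], fun v hv => by rwa [inv_one, one_smul]⟩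
      inv_mem' := fun ha => ⟨ha.2, by rw [inv_inv]; exact ha.1⟩ }
  have hH : ∀ g, KeepsCross g → g ∈ H := fun g hg => by
    have := Leech.finite_co0
    refine ⟨hg, ?_⟩
    obtain ⟨n, hn⟩ : ∃ n : ℕ, g ^ n = g⁻¹ := ⟨orderOf g - 1, eq_inv_of_mul_eq_one_left (by
      rw [← pow_succ, Nat.sub_add_cancel (orderOf_pos g), pow_orderOf_eq_one])⟩
    rw [← hn]
    clear hn
    induction n with
    | zero => exact fun v hv => by rwa [pow_zero, one_smul]
    | succ n ih => rw [pow_succ]; exact ih.mul hg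
  obtain ⟨-, hmax⟩ := S1572.result H (Set.ext fun g => ⟨fun h => h.1, hH g⟩)
  have hlt : H < K := by
    refine lt_of_le_of_ne (fun g hg => hkeep g hg.1) fun e => xi_moves ?_
    have : gSext.xi ∈ K := Subgroup.subset_closure (Or.inr rfl)
    rw [← e] at this
    exact this.1
  have htop := hmax K hlt
  rw [eq_top_iff]
  intro x _
  obtain ⟨g, rfl⟩ := QuotientGroup.mk'_surjective _ x
  exact (htop.symm ▸ Subgroup.mem_top g : g ∈ K)

end Cfsg.Agent.CoOneUniq
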