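import Cfsg.Agent.CoOneUniq.Model
import Cfsg.Agent.CoOneUniq.Gen
import Cfsg.Agent.DCoset.Steps

/-!
# Equations in the quotient checked on the twenty-four frame vectors
-/

set_option autoImplicit false
set_option maxRecDepth 100000

open Cfsg

namespace Cfsg.Agent.CoOneUniq

open Cfsg.Agent.Leech (LGen toL ptOf oct zneg xiGen)
open Cfsg.Agent.Leech.CentOne (toCo zC)
open Cfsg.Agent.Leech.CentTwo (gSext tGen)
open Cfsg.Agent.CosetCert Cfsg.Agent.DCoset

/-- The identity with its action on lists. -/
def idG : LGen where
  g := 1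
  f l := l
  spec v := by rw [one_smul]

/-- The sign change of everything with its action on lists. -/
def negG : LGen where
  g := zneg
  f l := l.map Neg.neg
  spec v := by
    rw [Leech.zneg_smul]
    simp [toL, List.map_map, Function.comp_def]

/-- The sextet element with its action on lists. -/
def xiG : LGen :=
  xiGen gSext [0, 0, 1, 2, 3, 1, 4, 2, 4, 3, 2, 1, 4, 5, 2, 0, 3, 5, 5, 0, 4, 3, 1, 5]
    (by decide +kernel)

theorem toCo_xiG : toCo xiG.g = tX := rfl

/-- Evaluate an integer before passing it on. -/
noncomputable def forceI {β : Sort*} (x : ℤ) (k : ℤ → β) : β :=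
  Int.rec (fun n => force n fun m => k (Int.ofNat m)) (fun n => force n fun m => k (Int.negSucc m)) x

theorem forceI_eq {β : Sort*} (x : ℤ) (k : ℤ → β) : forceI x k = k x := by
  cases x <;> simp [forceI]

/-- Evaluate a list of integers before passing it on. -/
noncomputable def forceL {β : Type} (l : List ℤ) : (List ℤ → β) → β :=
  List.rec (motive := fun _ => (List ℤ → β) → β) (fun k => k [])
    (fun x _ r k => forceI x fun y => r fun t => k (y :: t)) l

theorem forceL_eq {β : Type} : ∀ (l : List ℤ) (k : List ℤ → β), forceL l k = k l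
  | [], _ => rfl
  | x :: l, k => by
    show forceI x (fun y => forceL l fun t => k (y :: t)) = _
    rw [forceI_eq, forceL_eq l]

/-- Composition that evaluates the intermediate vector. -/
noncomputable def fcomp (a b : LGen) : LGen where
  g := a.g * b.g
  f l := forceL (b.f l) a.f
  spec v := by rw [forceL_eq, mul_smul, a.spec, b.spec]

/-- A frame vector as a list. -/
def octL (i : ℕ) : List ℤ := (List.range 24).map fun j => if j = i then 8 else 0

theorem toL_oct : ∀ i : Fin 24, toL (oct (ptOf i.val) : GolayPt → ℤ) = octL i.val := by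
  decide +kernel

/-- Two list actions agree on the frame. -/
noncomputable def sameB0 (a b : LGen) : Bool :=
  allLt 24 fun i => forceL (a.f (octL i)) fun x => forceL (b.f (octL i)) fun y => Leech.Model.eqZ x y

theorem eq_of_sameB0 {a b : LGen} (h : sameB0 a b = true) : a.g = b.g := by
  refine Leech.ext_of_oct fun i => Subtype.ext (Leech.toL_injective ?_)
  rw [a.spec, b.spec]
  have hi := Leech.idx_lt i
  have e : toL (oct i : GolayPt → ℤ) = octL (Leech.idx i) := by
    have := toL_oct ⟨Leech.idx i, hi⟩
    rwa [Leech.ptOf_idx] at this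
  rw [e]
  have e' := allLt_spec h _ hi
  rw [forceL_eq, forceL_eq] at e'
  exact Leech.Model.eq_of_eqZ e'

/-- Two list actions agree on the frame up to sign. -/
noncomputable def sameB (a b : LGen) : Bool := sameB0 a b || sameB0 a (fcomp negG b)

theorem toCo_eq_of_sameB {a b : LGen} (h : sameB a b = true) : toCo a.g = toCo b.g := by
  simp only [sameB, Bool.or_eq_true] at h
  rcases h with h | h
  · rw [eq_of_sameB0 h]
  · rw [eq_of_sameB0 h]
    show toCo (zneg * b.g) = _
    rw [map_mul, show toCo zneg = 1 from Leech.CentOne.toCo_one_iff.2 (Or.inr rfl), one_mul]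

theorem toCo_comp (a b : LGen) : toCo (fcomp a b).g = toCo a.g * toCo b.g := map_mul toCo _ _

/-- The list action of a packed word body. -/
noncomputable def wordG (lets : ℕ → MLet) (n : ℕ) : ℕ → LGen :=
  Nat.rec (motive := fun _ => ℕ → LGen) (fun _ => idG)
    (fun _ r w => fcomp (lets (w % 256)).gen (r (w / 256))) n

theorem valW_wordG (lets : ℕ → MLet) : ∀ n w,
    ((valW (fun g => (lets g).el) n w : ↥N1) : Spor.Co1) = toCo (wordG lets n w).g
  | 0, _ => (map_one toCo).symm
  | n + 1, w => by
    rw [valW, Subgroup.coe_mul, valW_wordG lets n]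
    exact (toCo_comp _ _).symm

/-- The list action of a packed word. -/
noncomputable def elG (lets : ℕ → MLet) (w : ℕ) : LGen := wordG lets (w % 65536) (w / 65536)

theorem el_elG (lets : ℕ → MLet) (w : ℕ) :
    ((val (fun g => (lets g).el) w : ↥N1) : Spor.Co1) = toCo (elG lets w).g :=
  valW_wordG lets _ _

/-- The word lies in the centraliser. -/
noncomputable def centB (a : LGen) : Bool := sameB (fcomp a tGen) (fcomp tGen a)

theorem mem_of_centB {a : LGen} (h : centB a = true) : toCo a.g ∈ C1 := by
  rw [Subgroup.mem_centralizer_singleton_iff]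
  have := toCo_eq_of_sameB h
  rwa [toCo_comp, toCo_comp] at this

/-- The extra letters. -/
noncomputable def tG (τ : ℕ) : LGen :=
  Bool.rec (motive := fun _ => LGen) idG xiG (Nat.beq τ 1)

theorem toCo_tG (τ : ℕ) : toCo (tG τ).g = if τ = 1 then tX else 1 := by
  by_cases h : τ = 1
  · subst h; rfl
  · rw [if_neg h]
    have hb : Nat.beq τ 1 = false := by
      cases hb : Nat.beq τ 1
      · rfl
      · exact absurd (Nat.eq_of_beq_eq_true hb) h
    rw [tG, hb]
    exact map_one toCo

theorem tG_mem (τ : ℕ) : toCo (tG τ).g ∈ C1 := by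
  rw [toCo_tG]
  split_ifs
  · exact tX_mem
  · exact one_mem _

/-- The product in a relator. -/
noncomputable def prodG : List LGen → LGen := List.foldr fcomp idG

theorem toCo_prodG : ∀ l : List LGen, toCo (prodG l).g = (l.map fun a => toCo a.g).prod
  | [] => map_one toCo
  | a :: l => by
    rw [List.map_cons, List.prod_cons, ← toCo_prodG l]
    exact toCo_comp _ _

end Cfsg.Agent.CoOneUniq
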