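import Cfsg.Agent.CoOneUniq.Defs
import Cfsg.Agent.CoOneUniq.Final.Dodecad
import Cfsg.Agent.SuzRecog.Final

/-!
A finite group with the hypothesis equals the image of the first Conway group.

With `K` the image, fusion of involutions in `K` is that of the group, as both have three classes.
An element centralising a group of dodecad sign changes and moving the octad ones out of `K` would,
through a dihedral group in the quotient by that group, produce a larger such group; so `K` contains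
the centralisers of the involutions of two classes.  The third class is stable under multiplication
by commuting conjugates of the marked involution, which finishes the proof.
-/

set_option autoImplicit false
set_option linter.unusedSectionVars false

open Cfsg Cfsg.Agent.CoOneType

namespace Cfsg.Agent.CoOneUniq.Endgame

open Cfsg.Agent.Leech.CentOne (toCo zC)

section Abstract

variable {X : Type*} [Group X] [Finite X]

/-- With exactly three classes of involutions, three non-conjugate ones represent all. -/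
theorem cover_of_three {z : X} (S : CoOne z) (p : Fin 3 → X) (hp : ∀ i, orderOf (p i) = 2)
    (hpne : ∀ i j, i ≠ j → ¬ IsConj (p i) (p j)) {x : X} (hx : orderOf x = 2) :
    ∃ i, IsConj x (p i) := by
  obtain ⟨a, b, c, -, -, -, -, -, -, hall⟩ := S.three_classes
  have hall' : ∀ x : X, orderOf x = 2 → ∃ k, IsConj x (![a, b, c] k) := fun x hx => by
    rcases hall x hx with h | h | h
    exacts [⟨0, h⟩, ⟨1, h⟩, ⟨2, h⟩]
  choose f hf using fun i => hall' (p i) (hp i)
  have hinj : Function.Injective f := fun i j e => by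
    by_contra hne
    exact hpne i j hne ((hf i).trans (e ▸ (hf j).symm))
  obtain ⟨k, hk⟩ := hall' x hx
  obtain ⟨i, rfl⟩ := (Finite.injective_iff_surjective.1 hinj) k
  exact ⟨i, hk.trans (hf i).symm⟩

end Abstract

/-- Three classes of the model: two from sign changes and the one with lifts of order four. -/
theorem class_cases {x : Spor.Co1} (hx : orderOf x = 2) :
    IsConj zC x ∨ IsConj dC x ∨ Bad x := by
  obtain ⟨S⟩ := exists_model_co
  have hzb : ¬ Bad zC := zC_eq ▸ not_bad_sg ((Leech.mem_iff _).2 octW_facts.1)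
  have hdb : ¬ Bad dC := not_bad_sg dW_mem
  have hzd := not_conj_zC_dC
  obtain ⟨i, hi⟩ := cover_of_three S ![zC, dC, bC]
    (fun i => by fin_cases i <;> simp [Leech.CentOne.orderOf_zC, orderOf_dC, orderOf_bC])
    (fun i j hij h => by
      fin_cases i <;> fin_cases j <;> simp [-isConj_iff] at hij h
      · exact hzd h
      · exact hzb (bad_conj h.symm bad_bC)
      · exact hzd h.symm
      · exact hdb (bad_conj h.symm bad_bC)
      · exact hzb (bad_conj h bad_bC)
      · exact hdb (bad_conj h bad_bC)) hx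
  fin_cases i <;> simp [-isConj_iff] at hi
  · exact Or.inl hi.symm
  · exact Or.inr (Or.inl hi.symm)
  · exact Or.inr (Or.inr (bad_conj hi.symm bad_bC))

section Final

variable {G : Type*} [Group G] [Finite G] {z : G} (S : CoOne z) (θ : Spor.Co1 →* G)
  (hθ : Function.Injective θ) (hz : θ zC = z)
  (hC : Subgroup.centralizer ({z} : Set G) ≤ θ.range)

include S hθ hz hC

/-- Fusion of involutions in the image is that of the group. -/
theorem isConj_of_map {x y : Spor.Co1} (hx : orderOf x = 2) (h : IsConj (θ x) (θ y)) :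
    IsConj x y := by
  obtain ⟨SM⟩ := exists_model_co
  have hy : orderOf y = 2 := by
    rw [← orderOf_injective θ hθ y]
    exact Invol.orderOf_eq_two_of_isConj h (by rw [orderOf_injective θ hθ]; exact hx)
  obtain ⟨a, b, c, ha, hb, hc, hab, hac, hbc, -⟩ := S.three_classes
  have hlift : ∀ a : G, orderOf a = 2 → ∃ k, orderOf k = 2 ∧ IsConj a (θ k) := by
    intro a ha
    obtain ⟨g, hg⟩ := S.exists_conj_comm ha
    obtain ⟨k, hk⟩ := hC (Subgroup.mem_centralizer_singleton_iff.2 hg)
    refine ⟨k, ?_, hk ▸ isConj_iff.2 ⟨g, rfl⟩⟩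
    rw [← orderOf_injective θ hθ k, hk, Invol.orderOf_conj, ha]
  have hr : ∀ i, orderOf (![a, b, c] i) = 2 := fun i => by fin_cases i <;> simp [ha, hb, hc]
  choose p hp hpc using fun i => hlift _ (hr i)
  have hrne : ∀ i j, IsConj (θ (p i)) (θ (p j)) → i = j := fun i j h => by
    have h' := ((hpc i).trans h).trans (hpc j).symm
    fin_cases i <;> fin_cases j <;> simp [-isConj_iff] at h' ⊢
    · exact hab h'
    · exact hac h'
    · exact hab h'.symm
    · exact hbc h'
    · exact hac h'.symm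
    · exact hbc h'.symm
  have hpne : ∀ i j, i ≠ j → ¬ IsConj (p i) (p j) := fun i j hij h => hij (hrne i j (θ.map_isConj h))
  obtain ⟨i, hi⟩ := cover_of_three SM p hp hpne hx
  obtain ⟨j, hj⟩ := cover_of_three SM p hp hpne hy
  obtain rfl := hrne i j ((θ.map_isConj hi.symm).trans (h.trans (θ.map_isConj hj)))
  exact hi.trans hj.symm

/-- An element moving a conjugate of the marked involution inside the image lies in the image. -/
theorem mem_of_move {x : Spor.Co1} (hx : IsConj zC x) {g : G}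
    (hg : g * θ x * g⁻¹ ∈ θ.range) : g ∈ θ.range := by
  obtain ⟨y, hy⟩ := hg
  have hxy : IsConj x y := isConj_of_map S θ hθ hz hC
    (Invol.orderOf_eq_two_of_isConj hx Leech.CentOne.orderOf_zC)
    (hy ▸ isConj_iff.2 ⟨g, rfl⟩)
  obtain ⟨p, rfl⟩ := isConj_iff.1 hx
  obtain ⟨q, rfl⟩ := isConj_iff.1 (hx.trans hxy)
  simp only [map_mul, map_inv, hz] at hy
  have hm : (θ q)⁻¹ * g * θ p ∈ θ.range := by
    refine hC (Subgroup.mem_centralizer_singleton_iff.2 ?_)
    calc (θ q)⁻¹ * g * θ p * z = (θ q)⁻¹ * (g * (θ p * z * (θ p)⁻¹) * g⁻¹) * g * θ p := by group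
      _ = (θ q)⁻¹ * (θ q * z * (θ q)⁻¹) * g * θ p := by rw [← hy]
      _ = z * ((θ q)⁻¹ * g * θ p) := by group
  have := mul_mem (mul_mem (⟨q, rfl⟩ : θ q ∈ θ.range) hm) (inv_mem (⟨p, rfl⟩ : θ p ∈ θ.range))
  simpa [mul_assoc] using this

/-- An element centralising a group of dodecad sign changes lies in the image. -/
theorem centralizer_words_le (W : AddSubgroup Word) (hW : ∀ w ∈ W, w ∈ golayCode ∧ ¬ Off w)
    (h1 : (1 : Word) ∈ W) (hd : dW ∈ W) {g : G}
    (hg : ∀ w ∈ W, Commute g (θ (sg w))) : g ∈ θ.range := by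
  induction hn : 4096 - Nat.card W using Nat.strong_induction_on generalizing W g with
  | _ n ih =>
  by_contra hgK
  obtain ⟨a, ha, b, hb, hab⟩ := exists_offCount_ne hW h1 hd dW_facts.2.1
  obtain ⟨hac, ha8⟩ := mem_octWords.1 ha
  obtain ⟨hbc, hb8⟩ := mem_octWords.1 hb
  have hzA : IsConj zC (sg a) := isConj_off hac (Or.inl ha8)
  have hzB : IsConj zC (sg b) := isConj_off hbc (Or.inl hb8)
  have hcom : ∀ c ∈ golayCode, ∀ d ∈ golayCode, Commute (θ (sg c)) (θ (sg d)) :=
    fun c hc d hd => (show Commute (sg c) (sg d) from sg_comm hc hd).map θ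
  set A := θ (sg a) with hA
  set B := θ (sg b) with hB
  set y := g * A * g⁻¹ with hy
  have hyK : y ∉ θ.range := fun h => hgK (mem_of_move S θ hθ hz hC hzA h)
  set Y : Subgroup G := Subgroup.centralizer {u | ∃ w ∈ W, u = θ (sg w)} with hY
  have memY : ∀ x : G, x ∈ Y ↔ ∀ w ∈ W, Commute x (θ (sg w)) := fun x =>
    ⟨fun h w hw => (Subgroup.mem_centralizer_iff.1 h _ ⟨w, hw, rfl⟩).symm,
      fun h => Subgroup.mem_centralizer_iff.2 (by rintro _ ⟨w, hw, rfl⟩; exact (h w hw).symm)⟩
  let N : Subgroup ↥Y :=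
    { carrier := {x | ∃ w ∈ W, (x : G) = θ (sg w)}
      one_mem' := ⟨0, zero_mem W, by rw [sg_zero, map_one]; rfl⟩
      mul_mem' := fun {x x'} hx hx' => by
        obtain ⟨w, hw, e⟩ := hx
        obtain ⟨w', hw', e'⟩ := hx'
        exact ⟨w + w', add_mem hw hw', by
          rw [Subgroup.coe_mul, e, e', sg_add (hW w hw).1 (hW w' hw').1, map_mul]⟩
      inv_mem' := fun {x} hx => by
        obtain ⟨w, hw, e⟩ := hx
        exact ⟨w, hw, by
          rw [Subgroup.coe_inv, e, inv_eq_iff_mul_eq_one, ← map_mul, sg_mul_self (hW w hw).1,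
            map_one]⟩ }
  have : N.Normal := ⟨fun x hx h => by
    obtain ⟨w, hw, e⟩ := hx
    refine ⟨w, hw, ?_⟩
    rw [Subgroup.coe_mul, Subgroup.coe_mul, Subgroup.coe_inv, e, ((memY _).1 h.2 w hw).eq,
      mul_inv_cancel_right]⟩
  let π : ↥Y →* ↥Y ⧸ N := QuotientGroup.mk' N
  have hcoset : ∀ u v : ↥Y, π u = π v → ∃ w ∈ W, (v : G) = u * θ (sg w) := fun u v e => by
    obtain ⟨w, hw, h⟩ := QuotientGroup.eq.1 e
    exact ⟨w, hw, inv_mul_eq_iff_eq_mul.1 h⟩
  have hsub : ∀ w ∈ W, θ (sg w) ∈ θ.range := fun w _ => ⟨_, rfl⟩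
  -- the two involutions of the quotient
  let bY : ↥Y := ⟨B, (memY _).2 fun w hw => hcom b hbc w (hW w hw).1⟩
  let yY : ↥Y := ⟨y, (memY _).2 fun w hw =>
    ((hg w hw).mul_left (hcom a hac w (hW w hw).1)).mul_left (hg w hw).inv_left⟩
  have hbo : orderOf (π bY) = 2 := Invol.orderOf_eq_two_iff.2 ⟨fun e => by
      obtain ⟨w, hw, h⟩ := (QuotientGroup.eq_one_iff _).1 e
      exact (hW w hw).2 ((off_of_sg hbc (hW w hw).1 (hθ h)).2 (Or.inl hb8)), by
      rw [← map_mul]
      refine (QuotientGroup.eq_one_iff _).2 ⟨0, zero_mem W, ?_⟩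
      show B * B = θ (sg 0)
      rw [hB, ← map_mul, sg_mul_self hbc, sg_zero]⟩
  have hyo : orderOf (π yY) = 2 := Invol.orderOf_eq_two_iff.2 ⟨fun e => by
      obtain ⟨w, hw, h⟩ := (QuotientGroup.eq_one_iff _).1 e
      exact hyK ((show y = θ (sg w) from h) ▸ hsub w hw), by
      rw [← map_mul]
      refine (QuotientGroup.eq_one_iff _).2 ⟨0, zero_mem W, ?_⟩
      show y * y = θ (sg 0)
      rw [hy, show g * A * g⁻¹ * (g * A * g⁻¹) = g * (A * A) * g⁻¹ by group, hA, ← map_mul,
        sg_mul_self hac, sg_zero, map_one]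
      group⟩
  have hmono : ∀ k, θ k ∈ Y → Mono k := fun k hk => mono_of_comm (hθ (by
    rw [map_mul, map_mul]; exact ((memY _).1 hk dW hd).eq))
  have hnc : ¬ IsConj (π bY) (π yY) := fun h => by
    obtain ⟨c, hc⟩ := isConj_iff.1 h
    obtain ⟨h, rfl⟩ := QuotientGroup.mk'_surjective N c
    rw [← map_inv, ← map_mul, ← map_mul] at hc
    obtain ⟨w, hw, e⟩ := hcoset _ _ hc.symm
    change (h : G) * B * (h : G)⁻¹ = y * θ (sg w) at e
    have e' : g⁻¹ * h * B * (g⁻¹ * h)⁻¹ = θ (sg (a + w)) := by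
      rw [sg_add hac (hW w hw).1, map_mul, ← hA,
        show g⁻¹ * h * B * (g⁻¹ * (h : G))⁻¹ = g⁻¹ * ((h : G) * B * (h : G)⁻¹) * g by group, e, hy,
        show g⁻¹ * (g * A * g⁻¹ * θ (sg w)) * g = A * (g⁻¹ * (θ (sg w) * g)) by group,
        ← (hg w hw).eq, inv_mul_cancel_left]
    obtain ⟨k, hk⟩ := mem_of_move S θ hθ hz hC hzB (g := g⁻¹ * h) (by rw [← hB, e']; exact ⟨_, rfl⟩)
    have hkY : θ k ∈ Y := by
      rw [hk]; exact mul_mem (inv_mem ((memY g).2 hg)) h.2
    refine hab ?_
    rw [← offCount_shift hw a]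
    refine Nat.card_congr (Equiv.subtypeEquivRight fun w' => and_congr_right fun hw' => ?_)
    have hbw := add_mem hbc (hW w' hw').1
    have haw := add_mem (add_mem hac (hW w hw).1) (hW w' hw').1
    obtain ⟨c', hc', hwt, hconj⟩ := conj_mono (hmono k hkY) hbw
    have e1 : k * sg (b + w') * k⁻¹ = sg (a + w + w') := hθ (by
      rw [sg_add hbc (hW w' hw').1, sg_add (add_mem hac (hW w hw).1) (hW w' hw').1]
      simp only [map_mul, map_inv]
      rw [← e', hk, ← hB]
      have := ((memY _).1 hkY w' hw').eq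
      rw [hk] at this
      calc g⁻¹ * (h : G) * (B * θ (sg w')) * (g⁻¹ * (h : G))⁻¹
          = g⁻¹ * (h : G) * B * (g⁻¹ * (h : G))⁻¹ *
              (g⁻¹ * (h : G) * θ (sg w') * (g⁻¹ * (h : G))⁻¹) := by group
        _ = _ := by rw [this, mul_inv_cancel_right])
    rw [hconj] at e1
    rw [off_of_sg hc' haw e1]
    unfold Off
    rw [hwt]
  obtain ⟨c, d, hc, hcb, hcy, hd'⟩ := SuzRecog.exists_central_shift hbo hyo hnc
  obtain ⟨C, rfl⟩ := QuotientGroup.mk'_surjective N c
  obtain ⟨D, rfl⟩ := QuotientGroup.mk'_surjective N d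
  -- the central involution comes from the image
  have hCb : ∃ w ∈ W, (C : G) * B * (C : G)⁻¹ = B * θ (sg w) := by
    refine hcoset bY (C * bY * C⁻¹) ?_
    rw [map_mul, map_mul, map_inv, hcb.eq, mul_inv_cancel_right]
  obtain ⟨w₁, hw₁, hCb⟩ := hCb
  obtain ⟨k, hk⟩ := mem_of_move S θ hθ hz hC hzB (g := (C : G))
    (by rw [← hB, hCb]; exact mul_mem ⟨_, rfl⟩ (hsub w₁ hw₁))
  have hkc : ∃ c' ∈ golayCode, k = sg c' := by
    have fin : ∀ (m : Spor.Co1) (o : Word), o ∈ golayCode → θ m ∈ Y → ∀ w ∈ W,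
        θ m * θ (sg o) * (θ m)⁻¹ = B * C * θ (sg w) → ∃ c' ∈ golayCode, k = sg c' := by
      intro m o ho hm w hw e
      obtain ⟨c', hc', -, hconj⟩ := conj_mono (hmono m hm) ho
      rw [← map_inv, ← map_mul, ← map_mul, hconj, hB, ← hk, ← map_mul, ← map_mul] at e
      refine ⟨b + c' + w, add_mem (add_mem hbc hc') (hW w hw).1, ?_⟩
      rw [sg_add (add_mem hbc hc') (hW w hw).1, sg_add hbc hc', hθ e,
        show sg b * (sg b * k * sg w) * sg w = sg b * sg b * k * (sg w * sg w) by group,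
        sg_mul_self hbc, sg_mul_self (hW w hw).1, one_mul, mul_one]
    rw [← map_inv, ← map_mul, ← map_mul] at hd'
    rcases hd' with e | e
    · rw [← map_mul] at e
      obtain ⟨w, hw, e'⟩ := hcoset _ _ e.symm
      change (D : G) * B * (D : G)⁻¹ = B * C * θ (sg w) at e'
      obtain ⟨m, hm⟩ := mem_of_move S θ hθ hz hC hzB (g := (D : G))
        (by rw [← hB, e']; exact mul_mem (mul_mem ⟨_, rfl⟩ ⟨k, hk⟩) (hsub w hw))
      exact fin m b hbc (hm ▸ D.2) w hw (by rw [hm]; exact e')
    · rw [← map_mul, ← map_mul, ← map_mul] at e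
      obtain ⟨w, hw, e'⟩ := hcoset _ _ e.symm
      change (D : G) * y * (D : G)⁻¹ = B * C * θ (sg w) at e'
      have e'' : (D : G) * g * A * ((D : G) * g)⁻¹ = B * C * θ (sg w) := by
        rw [← e', hy]; group
      obtain ⟨m, hm⟩ := mem_of_move S θ hθ hz hC hzA (g := (D : G) * g)
        (by rw [← hA, e'']; exact mul_mem (mul_mem ⟨_, rfl⟩ ⟨k, hk⟩) (hsub w hw))
      exact fin m a hac (hm ▸ mul_mem D.2 ((memY g).2 hg)) w hw (by rw [hm, ← hA]; exact e'')
  obtain ⟨c, hcc, rfl⟩ := hkc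
  have hcW : c ∉ W := fun h => Invol.ne_one hc ((QuotientGroup.eq_one_iff _).2 ⟨c, h, hk.symm⟩)
  obtain ⟨w₂, hw₂, hCy⟩ : ∃ w ∈ W, y * (C : G) * y⁻¹ = C * θ (sg w) := by
    refine hcoset C (yY * C * yY⁻¹) ?_
    rw [map_mul, map_mul, map_inv, ← hcy.eq, mul_inv_cancel_right]
  have hyY := (memY y).1 yY.2
  have hyc : ∀ w ∈ W, y * θ (sg (c + w)) * y⁻¹ = θ (sg (c + w₂ + w)) := fun w hw => by
    rw [sg_add hcc (hW w hw).1, map_mul,
      show y * (θ (sg c) * θ (sg w)) * y⁻¹ = y * θ (sg c) * y⁻¹ * (y * θ (sg w) * y⁻¹) by group,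
      (hyY w hw).eq, mul_inv_cancel_right, hk, hCy, ← hk, ← map_mul, ← map_mul,
      ← sg_add hcc (hW w₂ hw₂).1, ← sg_add (add_mem hcc (hW w₂ hw₂).1) (hW w hw).1]
  have hoff : ∀ w ∈ W, ¬ Off (c + w) := fun w hw h => hyK (mem_of_move S θ hθ hz hC
    (isConj_off (add_mem hcc (hW w hw).1) h) (hyc w hw ▸ ⟨_, rfl⟩))
  -- the larger group
  let W' : AddSubgroup Word :=
    { carrier := {x | x ∈ W ∨ c + x ∈ W}
      zero_mem' := Or.inl (zero_mem W)
      add_mem' := fun {x x'} hx hx' => by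
        rcases hx with hx | hx <;> rcases hx' with hx' | hx'
        · exact Or.inl (add_mem hx hx')
        · refine Or.inr ?_
          rw [add_left_comm]
          exact add_mem hx hx'
        · refine Or.inr ?_
          rw [← add_assoc]
          exact add_mem hx hx'
        · refine Or.inl ?_
          have := add_mem hx hx'
          rwa [add_add_add_comm, CharTwo.add_self_eq_zero, zero_add] at this
      neg_mem' := fun {x} hx => by rwa [CharTwo.neg_eq] }
  have hcx : ∀ x, c + (c + x) = x := fun x => by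
    rw [← add_assoc, CharTwo.add_self_eq_zero, zero_add]
  have hW' : ∀ x ∈ W', x ∈ golayCode ∧ ¬ Off x := by
    rintro x (hx | hx)
    · exact hW x hx
    · rw [← hcx x]
      exact ⟨add_mem hcc (hW _ hx).1, hoff _ hx⟩
  have hlt : Nat.card W < Nat.card W' := by
    have hl : W < W' := lt_of_le_of_ne (fun x hx => Or.inl hx) fun e => hcW (e ▸ Or.inr (by
      rw [CharTwo.add_self_eq_zero]; exact zero_mem W))
    have h := Set.ncard_lt_ncard (SetLike.coe_ssubset_coe.2 hl) (Set.toFinite _)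
    rw [← Nat.card_coe_set_eq, ← Nat.card_coe_set_eq] at h
    exact h
  have hle : Nat.card W' ≤ 4096 := by
    have h : W' ≤ golayCode.toAddSubgroup := fun w hw => (hW' w hw).1
    refine (AddSubgroup.card_le_of_le h).trans (le_of_eq ?_)
    show Nat.card ↥golayCode = 4096
    rw [Module.natCard_eq_pow_finrank (K := ZMod 2), Leech.finrank_golayCode, Nat.card_zmod]
    norm_num
  have himg : ∀ x ∈ W', ∃ x' ∈ golayCode, y * θ (sg x) * y⁻¹ = θ (sg x') := by
    rintro x (hx | hx)
    · exact ⟨x, (hW x hx).1, by rw [(hyY x hx).eq, mul_inv_cancel_right]⟩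
    · exact ⟨c + w₂ + (c + x), add_mem (add_mem hcc (hW w₂ hw₂).1) (hW _ hx).1, by
        rw [← hyc _ hx, hcx]⟩
  have hyy : y * y = 1 := by
    rw [hy, show g * A * g⁻¹ * (g * A * g⁻¹) = g * (A * A) * g⁻¹ by group, hA, ← map_mul,
      sg_mul_self hac, map_one]
    group
  refine hyK (mem_of_move S θ hθ hz hC hzA (ih (4096 - Nat.card W') (by omega) W' hW'
    (Or.inl h1) (Or.inl hd) (fun x hx => ?_) rfl))
  obtain ⟨x', hx', e⟩ := himg x hx
  have e2 : θ (sg x) = y * θ (sg x') * y⁻¹ := by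
    rw [← e, inv_eq_of_mul_eq_one_right hyy,
      show y * (y * θ (sg x) * y) * y = y * y * θ (sg x) * (y * y) by group, hyy, one_mul, mul_one]
  show y * A * y⁻¹ * θ (sg x) = θ (sg x) * (y * A * y⁻¹)
  rw [e2, show y * A * y⁻¹ * (y * θ (sg x') * y⁻¹) = y * (A * θ (sg x')) * y⁻¹ by group, hA,
    (hcom a hac x' hx').eq]
  group

/-- The centraliser of the dodecad involution lies in the image. -/
theorem centralizer_dC_le {g : G} (hg : Commute g (θ dC)) : g ∈ θ.range := by
  let W : AddSubgroup Word := AddSubgroup.closure {1, dW}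
  have hmem : ∀ w ∈ W, w = 0 ∨ w = 1 ∨ w = dW ∨ w = dW + 1 := by
    intro w hw
    induction hw using AddSubgroup.closure_induction with
    | mem x hx => rcases hx with rfl | rfl <;> simp
    | zero => simp
    | add x y _ _ hx hy =>
      have h2 : ∀ a b : Word, a + (a + b) = b := fun a b => by
        rw [← add_assoc, CharTwo.add_self_eq_zero, zero_add]
      rcases hx with rfl | rfl | rfl | rfl <;> rcases hy with rfl | rfl | rfl | rfl <;>
        simp [CharTwo.add_self_eq_zero, add_comm, add_left_comm, h2]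
    | neg x _ hx => rwa [CharTwo.neg_eq]
  have hd1 := weight_compl' dW
  have h1 := weight_compl' 0
  rw [zero_add, hammingNorm_zero] at h1
  refine centralizer_words_le S θ hθ hz hC W (fun w hw => ?_)
    (AddSubgroup.subset_closure (by simp)) (AddSubgroup.subset_closure (by simp)) fun w hw => ?_
  · rcases hmem w hw with rfl | rfl | rfl | rfl
    · exact ⟨zero_mem _, by simp [Off]⟩
    · exact ⟨Leech.one_mem, by unfold Off; omega⟩
    · exact ⟨dW_mem, by unfold Off; rw [dW_facts.2.1]; omega⟩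
    · exact ⟨add_mem dW_mem Leech.one_mem, by unfold Off; have := dW_facts.2.1; omega⟩
  · rcases hmem w hw with rfl | rfl | rfl | rfl
    · rw [sg_zero, map_one]; exact Commute.one_right g
    · rw [sg_one, map_one]; exact Commute.one_right g
    · exact hg
    · rw [sg_add dW_mem Leech.one_mem, sg_one, mul_one]; exact hg

/-- The centralisers of the involutions lifting to involutions lie in the image. -/
theorem centralizer_le_of_not_bad {x : Spor.Co1} (hx : orderOf x = 2) (hb : ¬ Bad x) {g : G}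
    (hg : Commute g (θ x)) : g ∈ θ.range := by
  rcases class_cases hx with h | h | h
  · exact mem_of_move S θ hθ hz hC h (by rw [hg.eq, mul_inv_cancel_right]; exact ⟨x, rfl⟩)
  · obtain ⟨p, rfl⟩ := isConj_iff.1 h
    have hm : (θ p)⁻¹ * g * θ p ∈ θ.range := by
      refine centralizer_dC_le S θ hθ hz hC ?_
      simp only [map_mul, map_inv] at hg
      show (θ p)⁻¹ * g * θ p * θ dC = θ dC * ((θ p)⁻¹ * g * θ p)
      calc (θ p)⁻¹ * g * θ p * θ dC
          = (θ p)⁻¹ * (g * (θ p * θ dC * (θ p)⁻¹)) * θ p := by group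
        _ = (θ p)⁻¹ * (θ p * θ dC * (θ p)⁻¹ * g) * θ p := by rw [hg.eq]
        _ = θ dC * ((θ p)⁻¹ * g * θ p) := by group
    have := mul_mem (mul_mem (⟨p, rfl⟩ : θ p ∈ θ.range) hm) (inv_mem (⟨p, rfl⟩ : θ p ∈ θ.range))
    simpa [mul_assoc] using this
  · exact absurd h hb

end Final

end Cfsg.Agent.CoOneUniq.Endgame

namespace Cfsg.Agent.CoOneUniq

open Cfsg.Agent.Leech.CentOne (toCo zC)
open Endgame

/-- The image of the first Conway group is the whole group. -/
theorem range_eq_top {G : Type*} [Group G] [Finite G] {z : G} (S : CoOne z)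
    (θ : Spor.Co1 →* G) (hθ : Function.Injective θ) (hz : θ zC = z)
    (hC : Subgroup.centralizer ({z} : Set G) ≤ θ.range) : θ.range = ⊤ := by
  refine eq_top_iff.2 fun g _ => ?_
  by_contra hgK
  set y := g * z * g⁻¹ with hy
  have hzo : orderOf z = 2 := S.sett.ord
  have hyK : y ∉ θ.range := fun h =>
    hgK (mem_of_move S θ hθ hz hC (IsConj.refl zC) (by rw [hz]; exact h))
  have hdo : orderOf (θ dC) = 2 := by rw [orderOf_injective θ hθ, orderOf_dC]
  have hzy : IsConj z y := isConj_iff.2 ⟨g, rfl⟩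
  have hnc : ¬ IsConj y (θ dC) := fun h => not_conj_zC_dC
    (isConj_of_map S θ hθ hz hC Leech.CentOne.orderOf_zC (by rw [hz]; exact hzy.trans h))
  obtain ⟨c, d, hc, hcy, hcd, hshift⟩ :=
    SuzRecog.exists_central_shift ((Invol.orderOf_conj g z).trans hzo) hdo hnc
  obtain ⟨k, hk⟩ := centralizer_dC_le S θ hθ hz hC hcd
  have hko : orderOf k = 2 := by rw [← orderOf_injective θ hθ k, hk]; exact hc
  have hkb : Bad k := by
    by_contra hb
    exact hyK (centralizer_le_of_not_bad S θ hθ hz hC hko hb (hk ▸ hcy.symm))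
  -- pull back to the centraliser of the marked involution
  have hc'z : g⁻¹ * c * g * z = z * (g⁻¹ * c * g) := by
    calc g⁻¹ * c * g * z = g⁻¹ * (c * y) * g := by rw [hy]; group
      _ = g⁻¹ * (y * c) * g := by rw [hcy.eq]
      _ = z * (g⁻¹ * c * g) := by rw [hy]; group
  obtain ⟨k', hk'⟩ := hC (Subgroup.mem_centralizer_singleton_iff.2 hc'z)
  have hk'b : Bad k' := bad_conj (isConj_of_map S θ hθ hz hC hko
    (by rw [hk, hk']; exact isConj_iff.2 ⟨g⁻¹, by group⟩)) hkb
  have hprod : Bad (zC * k') :=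
    bad_mul_zC (hθ (by rw [map_mul, map_mul, hz, hk']; exact hc'z)) hk'b
  have hpo : orderOf (zC * k') = 2 := by
    rw [← orderOf_injective θ hθ, map_mul, hz, hk',
      show z * (g⁻¹ * c * g) = g⁻¹ * (y * c) * g⁻¹⁻¹ by rw [hy]; group, Invol.orderOf_conj]
    rcases hshift with h | h <;> rw [← h, Invol.orderOf_conj]
    exacts [(Invol.orderOf_conj g z).trans hzo, hdo]
  have hcl : IsConj (θ (zC * k')) (θ zC) ∨ IsConj (θ (zC * k')) (θ dC) := by
    have h1 : IsConj (θ (zC * k')) (y * c) := isConj_iff.2 ⟨g, by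
      rw [map_mul, hz, hk', hy]; group⟩
    rcases hshift with h | h
    · exact Or.inl (h1.trans ((isConj_iff.2 ⟨d, h⟩ : IsConj y (y * c)).symm.trans
        (by rw [hz]; exact hzy.symm)))
    · exact Or.inr (h1.trans (isConj_iff.2 ⟨d, h⟩ : IsConj (θ dC) (y * c)).symm)
  rcases hcl with h | h
  · exact not_bad_sg ((Leech.mem_iff _).2 octW_facts.1)
      (zC_eq ▸ bad_conj (isConj_of_map S θ hθ hz hC hpo h) hprod)
  · exact not_bad_sg dW_mem (bad_conj (isConj_of_map S θ hθ hz hC hpo h) hprod)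

end Cfsg.Agent.CoOneUniq
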