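import Cfsg.Agent.CoOneUniq.Defs
import Cfsg.Agent.CoOneGolay.Main
import Cfsg.Agent.Leech.SignGroup

/-!
The normaliser `Nm S` as the monomial group of the model.

A code `v` of `Au S` gives the word whose value at a point `i` is the pairing of `v` with the vector
of `i`, moved into the numbering of `Leech.idx`; it is determined up to complement.
-/

set_option autoImplicit false

open Cfsg Cfsg.Agent.CoOneType Cfsg.Agent.CoOneGolay
open Cfsg.Agent.LargeExtra (oc oc_le)
open Cfsg.Agent.Leech (bitWord idx ptOf permCo0 signCo0 zneg)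
open Cfsg.Agent.Leech.CentOne (toCo zC)
open Cfsg.Agent.Leech.CentTwo (tGen)

namespace Cfsg.Agent.CoOneUniq

/-- The move of the points. -/
def s0 : Equiv.Perm GolayPt :=
  Leech.permOfLists [23, 5, 2, 18, 7, 22, 8, 15, 21, 10, 4, 19, 12, 20, 17, 6, 1, 13, 3, 14, 0, 9, 16, 11]
    [20, 16, 2, 18, 10, 1, 15, 4, 6, 21, 9, 23, 12, 17, 19, 7, 22, 14, 3, 11, 13, 8, 5, 0]
    (by decide +kernel) (by decide +kernel)

theorem s0_mem : s0 ∈ M24 := Leech.mem_M24_of_rows (by decide +kernel)

/-- The change of numbering on the automorphism group of the code. -/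
def conjS : ↥M24 ≃* ↥M24 := MulAut.conj ⟨s0, s0_mem⟩

/-- The coordinate permutations in the model. -/
noncomputable def pHomK : ↥M24 →* Spor.Co1 :=
  toCo.comp (MonoidHom.mk' (fun σ : ↥M24 => permCo0 σ.1 σ.2) fun σ τ => Leech.permCo0_mul σ.1 τ.1 σ.2 τ.2)

theorem pHomK_apply (σ : ↥M24) : pHomK σ = toCo (permCo0 σ.1 σ.2) := rfl

theorem wordM_xor (x y : ℕ) : wordM (x ^^^ y) = wordM x ^^^ wordM y := by
  unfold wordM
  induction List.range 11 with
  | nil => simp
  | cons k l ih =>
    rw [List.foldr_cons, List.foldr_cons, List.foldr_cons, ih, Nat.testBit_xor]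
    generalize List.foldr _ 0 l = A
    generalize List.foldr _ 0 l = B
    cases x.testBit k <;> cases y.testBit k <;>
      simp [Nat.xor_assoc, Nat.xor_comm, Nat.xor_left_comm]

/-- The word of a code. -/
def wd (v : ℕ) : GolayPt → ZMod 2 := bitWord (wordM v)

theorem wd_xor (x y : ℕ) : wd (x ^^^ y) = wd x + wd y := by
  rw [wd, wordM_xor, Leech.bitWord_xor]; rfl

theorem wd_zero : wd 0 = 0 := by
  rw [wd, show wordM 0 = 0 by decide +kernel, Leech.bitWord_zero]

theorem wd_basis : ∀ k : Fin 11, Leech.dec (wd (2 ^ k.val)) = wd (2 ^ k.val) := by decide +kernel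

theorem wd_mem {v : ℕ} (hv : v < 2048) : wd v ∈ golayCode :=
  CoOneGolay.bit_induction (P := fun v => wd v ∈ golayCode) (by rw [wd_zero]; exact zero_mem _)
    (fun x y _ _ hx hy => by rw [wd_xor]; exact add_mem hx hy) (fun k => (Leech.mem_iff _).2 (wd_basis k)) hv

theorem word_basis : ∀ k : Fin 11, ∀ i : GolayPt,
    (wordM (2 ^ k.val)).testBit (idx (s0 i)) = chi (appL dMap (LargeFischer.pn i)) (2 ^ k.val) := by
  decide +kernel

theorem chi_zero (m : ℕ) : chi m 0 = false := by
  have h := chi_xor m 0 0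
  rw [Nat.xor_self] at h
  revert h
  cases chi m 0 <;> simp

theorem word_bit {v : ℕ} (hv : v < 2048) (i : GolayPt) :
    (wordM v).testBit (idx (s0 i)) = chi (appL dMap (LargeFischer.pn i)) v :=
  CoOneGolay.bit_induction
    (P := fun v => (wordM v).testBit (idx (s0 i)) = chi (appL dMap (LargeFischer.pn i)) v)
    (by rw [chi_zero, show wordM 0 = 0 by decide +kernel, Nat.zero_testBit])
    (fun x y _ _ hx hy => by
      rw [wordM_xor, Nat.testBit_xor, chi_xor, hx, hy])
    (fun k => word_basis k i) hv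

/-- The sign change of a code. -/
noncomputable def sg (v : Fin 2048) : Spor.Co1 := toCo (signCo0 (wd v.val) (wd_mem v.isLt))

theorem sg_mul (x y : Fin 2048) :
    sg x * sg y = sg ⟨x.val ^^^ y.val, Nat.xor_lt_two_pow (n := 11) x.isLt y.isLt⟩ := by
  rw [sg, sg, sg, ← map_mul, Leech.signCo0_mul]
  exact congrArg toCo (Leech.signCo0_congr (wd_xor _ _).symm _ _)

theorem toCo_sign_eq {a b : GolayPt → ZMod 2} (ha : a ∈ golayCode) (hb : b ∈ golayCode) (c : ZMod 2)
    (h : a = b + fun _ => c) : toCo (signCo0 a ha) = toCo (signCo0 b hb) := by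
  have hc : c = 0 ∨ c = 1 := (by decide : ∀ c : ZMod 2, c = 0 ∨ c = 1) c
  refine (Leech.CentOne.toCo_eq_iff.2 ?_).symm
  rcases hc with rfl | rfl
  · exact Or.inl (Leech.signCo0_congr (h.trans (funext fun p => add_zero _)) _ _)
  · refine Or.inr ?_
    rw [zneg, Leech.signCo0_mul]
    exact Leech.signCo0_congr h _ _

theorem sg_zero : sg 0 = 1 := by
  rw [sg, Leech.signCo0_congr (show wd ((0 : Fin 2048) : ℕ) = 0 from wd_zero) _ (zero_mem _),
    Leech.signCo0_zero, map_one]

theorem ones_word : bitWord 16777215 = 1 := by decide +kernel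

theorem perm_one_co0 : permCo0 (1 : Equiv.Perm GolayPt) (one_mem M24) = 1 :=
  Leech.ext_of_oct fun i => Subtype.ext (funext fun q => by
    rw [Leech.permCo0_apply, one_smul]; simp)

theorem tGen_perm :
    Leech.permOfLists [0, 1, 2, 3, 4, 5, 6, 7, 8, 9, 10, 11, 12, 13, 14, 15, 16, 17, 18, 19, 20, 21, 22, 23]
      [0, 1, 2, 3, 4, 5, 6, 7, 8, 9, 10, 11, 12, 13, 14, 15, 16, 17, 18, 19, 20, 21, 22, 23]
      (by decide +kernel) (by decide +kernel) = 1 := by decide +kernel

theorem sg_one : sg 1 = zC := by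
  have h : ∀ (σ : Equiv.Perm GolayPt) (hσ : σ ∈ M24), σ = 1 → permCo0 σ hσ = 1 := by
    rintro σ hσ rfl; exact perm_one_co0
  have ht : tGen.g = signCo0 (bitWord 7430140) ((Leech.mem_iff _).2 (by decide +kernel)) := by
    show permCo0 _ _ * _ = _
    rw [h _ _ tGen_perm, one_mul]
  rw [zC, ht, sg]
  refine toCo_sign_eq _ _ 1 ?_
  rw [show wd ((1 : Fin 2048) : ℕ) = bitWord (7430140 ^^^ 16777215) by decide +kernel, Leech.bitWord_xor,
    ones_word]
  rfl

theorem wd_const {v : ℕ} (hv : v < 2048) (c : ZMod 2) (h : wd v = fun _ => c) : v = 0 := by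
  have hcheck : ((List.range 2048).all fun v => v == 0 ||
      (List.range 24).any fun i => (wordM v).testBit i != (wordM v).testBit 0) = true := by decide +kernel
  have h1 := List.all_eq_true.1 hcheck v (List.mem_range.2 hv)
  simp only [Bool.or_eq_true, beq_iff_eq, List.any_eq_true, bne_iff_ne] at h1
  refine h1.resolve_right fun ⟨i, hi, hne⟩ => hne ?_
  have e1 := congrFun h (ptOf i)
  have e2 := congrFun h (ptOf 0)
  simp only [wd, bitWord, Leech.idx_ptOf i (List.mem_range.1 hi), Leech.idx_ptOf 0 (by norm_num)] at e1 e2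
  rw [← e2] at e1
  revert e1
  cases (wordM v).testBit i <;> cases (wordM v).testBit 0 <;> decide

theorem row_codes : ∀ i : Fin 12,
    bitWord (wordM ((![1107, 1106, 1048, 1233, 335, 1733, 1763, 1375, 1564, 428, 366, 544] : Fin 12 → ℕ) i)) =
      Leech.row i + (fun _ => if (![false, false, true, false, true, true, false, true, true, true, true, false] : Fin 12 → Bool) i
        then (1 : ZMod 2) else 0) := by decide +kernel

theorem exists_code {c : GolayPt → ZMod 2} (hc : c ∈ golayCode) :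
    ∃ (v : Fin 2048) (e : ZMod 2), c = wd v.val + fun _ => e := by
  refine Leech.code_induction (P := fun c => ∃ (v : Fin 2048) (e : ZMod 2), c = wd v.val + fun _ => e)
    (fun i => ?_) ⟨0, 0, ?_⟩ (fun a b _ _ ha hb => ?_) hc
  · have hlt : (![1107, 1106, 1048, 1233, 335, 1733, 1763, 1375, 1564, 428, 366, 544] : Fin 12 → ℕ) i < 2048 := by
      revert i; decide
    refine ⟨⟨_, hlt⟩, if (![false, false, true, false, true, true, false, true, true, true, true, false] : Fin 12 → Bool) i
        then 1 else 0, ?_⟩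
    show _ = bitWord _ + _
    rw [row_codes i, add_assoc]
    funext p
    simp only [Pi.add_apply]
    rw [CharTwo.add_self_eq_zero, add_zero]
  · rw [show wd ((0 : Fin 2048) : ℕ) = 0 from wd_zero, zero_add]; rfl
  · obtain ⟨v, e, rfl⟩ := ha
    obtain ⟨w, f, rfl⟩ := hb
    refine ⟨⟨_, Nat.xor_lt_two_pow (n := 11) v.isLt w.isLt⟩, e + f, ?_⟩
    show _ = wd (v.val ^^^ w.val) + _
    rw [wd_xor]
    funext p
    simp only [Pi.add_apply]
    abel

theorem perm_eq_sign {σ : Equiv.Perm GolayPt} (hσ : σ ∈ M24) {c : GolayPt → ZMod 2} (hc : c ∈ golayCode)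
    (h : permCo0 σ hσ = signCo0 c hc) : σ = 1 ∧ c = 0 := by
  have key : ∀ i, σ i = i ∧ c i = 0 := fun i => by
    have e := congrArg (fun v : leechLattice => (v : GolayPt → ℤ) (σ i))
      (congrArg (fun g : ↥Co0 => g • Leech.oct i) h)
    simp only [Leech.permCo0_apply, Leech.signCo0_apply, Leech.negOn, Leech.oct] at e
    rw [show σ⁻¹ (σ i) = i by simp, Pi.single_eq_same] at e
    by_cases hi : σ i = i
    · refine ⟨hi, ?_⟩
      rw [hi, Pi.single_eq_same] at e
      by_contra hc0
      rw [if_neg hc0] at e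
      omega
    · rw [Pi.single_eq_of_ne hi] at e
      split_ifs at e <;> omega
  exact ⟨Equiv.ext fun i => (key i).1, funext fun i => (key i).2⟩

universe u

variable {G : Type u} [Group G] [Finite G] {z : G} {S : CoOne z} {w : G} {D : Frm S w} {g : G} {s : ℕ}

/-- The normaliser acts on the words as on the points, up to complement. -/
theorem wd_conj (M : Mdl D g s) (n : ↥(Nm S)) (v : Fin 2048) :
    ∃ c : ZMod 2, wd (permN M n v).val =
      (fun p => wd v.val ((conjS (homN M n) : Equiv.Perm GolayPt)⁻¹ p)) + fun _ => c := by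
  set π := piN M n with hπ
  have key : ∀ i j, (chi (appL dMap (LargeFischer.pn (π i))) (permN M n v).val !=
      chi (appL dMap (LargeFischer.pn (π j))) (permN M n v).val) =
      (chi (appL dMap (LargeFischer.pn i)) v.val != chi (appL dMap (LargeFischer.pn j)) v.val) := by
    intro i j
    have h := M.pi_spec n i j
    have hlt := Nat.xor_lt_two_pow (n := 11) (LargeFischer.pn_lt i) (LargeFischer.pn_lt j)
    have hlt' := Nat.xor_lt_two_pow (n := 11) (LargeFischer.pn_lt (π i)) (LargeFischer.pn_lt (π j))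
    rw [M.tau_apply, LargeFischer.pt, LargeFischer.pt, LargeFischer.pt, LargeFischer.pt,
      ← LargeFischer.bv_xor, ← LargeFischer.bv_xor, numW_bv hlt] at h
    have h2 := congrArg (appL dMap) (LargeFischer.bv_inj (appL_lt map_lt.2.1 _) hlt' h)
    rw [(map_inv (maskN_lt M _ _)).2] at h2
    rw [← chi_xor_left, ← chi_xor_left, ← appL_xor, ← appL_xor, hπ, ← h2, M.mask_spec, ← M.perm_mul,
      inv_mul_cancel, M.perm_one]
  refine ⟨wd (permN M n v).val (s0 (π none)) + wd v.val (s0 none), funext fun p => ?_⟩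
  have hi : (conjS (homN M n) : Equiv.Perm GolayPt)⁻¹ p = s0 (π⁻¹ (s0⁻¹ p)) := by
    show (s0 * π * s0⁻¹)⁻¹ p = _
    simp [mul_inv_rev]
  rw [Pi.add_apply, hi]
  obtain ⟨i, rfl⟩ : ∃ i, s0 (π i) = p := ⟨π⁻¹ (s0⁻¹ p), by simp⟩
  rw [show π⁻¹ (s0⁻¹ (s0 (π i))) = i by simp]
  simp only [wd, bitWord, word_bit (permN M n v).isLt, word_bit v.isLt]
  have h := key i none
  revert h
  cases chi (appL dMap (LargeFischer.pn (π i))) (permN M n v).val <;>
    cases chi (appL dMap (LargeFischer.pn (π none))) (permN M n v).val <;>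
    cases chi (appL dMap (LargeFischer.pn i)) v.val <;>
    cases chi (appL dMap (LargeFischer.pn none)) v.val <;> decide

theorem sg_conj (M : Mdl D g s) (n : ↥(Nm S)) (v : Fin 2048) :
    pHomK (conjS (homN M n)) * sg v * (pHomK (conjS (homN M n)))⁻¹ = sg (permN M n v) := by
  rw [pHomK_apply, sg, sg, ← map_mul, ← _root_.map_inv, ← map_mul,
    Leech.conj_perm_sign _ (conjS (homN M n)).2 _ (wd_mem v.isLt)]
  obtain ⟨c, hc⟩ := wd_conj M n v
  exact (toCo_sign_eq _ _ c hc).symm

/-- The code of an element of `Au S`. -/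
noncomputable def codeOf (_M : Mdl D g s) (a : G) (ha : a ∈ Au S) : Fin 2048 := (D.psi_surj s ha).choose

theorem codeOf_spec (M : Mdl D g s) (a : G) (ha : a ∈ Au S) : a = D.psi s (codeOf M a ha).val :=
  (D.psi_surj s ha).choose_spec

theorem codeOf_eq (M : Mdl D g s) {a : G} (ha : a ∈ Au S) {v : Fin 2048} (h : a = D.psi s v.val) :
    codeOf M a ha = v :=
  D.psi_inj s ((codeOf_spec M a ha).symm.trans h)

/-- The identification with the monomial group. -/
theorem exists_kappa (M : Mdl D g s) : ∃ κ : ↥(Nm S) →* Spor.Co1,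
    Function.Injective κ ∧ κ.range = N1 ∧
      ∀ (v : Fin 2048) (h : D.psi s v.val ∈ Nm S), κ ⟨D.psi s v.val, h⟩ = sg v := by
  classical
  obtain ⟨K, hK⟩ := M.split
  have hker := M.hom_ker
  let res : ↥K →* ↥M24 := (homN M).comp K.subtype
  have hres : Function.Bijective res := by
    constructor
    · refine (injective_iff_map_eq_one res).2 fun k hk => ?_
      have h1 : (k : ↥(Nm S)) ∈ (Au S).subgroupOf (Nm S) := hker ▸ hk
      have h2 := hK.disjoint.le_bot ⟨h1, k.2⟩
      exact Subtype.ext (Subgroup.mem_bot.1 h2)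
    · intro σ
      obtain ⟨n, rfl⟩ := M.hom_surj σ
      obtain ⟨⟨a, k⟩, hak⟩ := hK.existsUnique n |>.exists
      refine ⟨k, ?_⟩
      have ha : homN M (a : ↥(Nm S)) = 1 := (hker.ge a.2 : _)
      show homN M (k : ↥(Nm S)) = homN M n
      rw [← hak, map_mul, ha, one_mul]
  let sect : ↥M24 →* ↥(Nm S) := K.subtype.comp (MulEquiv.ofBijective res hres).symm.toMonoidHom
  have hsect : ∀ σ, homN M (sect σ) = σ := fun σ => (MulEquiv.ofBijective res hres).apply_symm_apply σ
  have hAu : ∀ n : ↥(Nm S), ((n * (sect (homN M n))⁻¹ : ↥(Nm S)) : G) ∈ Au S := fun n => by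
    have h : n * (sect (homN M n))⁻¹ ∈ (homN M).ker := by
      rw [MonoidHom.mem_ker, map_mul, _root_.map_inv, hsect, mul_inv_cancel]
    rw [hker] at h
    exact h
  let cd : ↥(Nm S) → Fin 2048 := fun n => codeOf M _ (hAu n)
  have hcd : ∀ n : ↥(Nm S), ((n * (sect (homN M n))⁻¹ : ↥(Nm S)) : G) = D.psi s (cd n).val :=
    fun n => codeOf_spec M _ (hAu n)
  let κ : ↥(Nm S) →* Spor.Co1 := MonoidHom.mk' (fun n => sg (cd n) * pHomK (conjS (homN M n))) fun n m => by
    have hc : cd (n * m) = ⟨(cd n).val ^^^ (permN M (sect (homN M n)) (cd m)).val,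
        Nat.xor_lt_two_pow (n := 11) (cd n).isLt (permN M (sect (homN M n)) (cd m)).isLt⟩ := by
      refine codeOf_eq M _ ?_
      rw [D.psi_xor M.good s (cd n).isLt (permN M (sect (homN M n)) (cd m)).isLt, ← M.perm_spec,
        ← hcd n, ← hcd m]
      simp only [Subgroup.coe_mul, Subgroup.coe_inv, map_mul, mul_inv_rev]
      group
    show sg (cd (n * m)) * pHomK (conjS (homN M (n * m))) = _
    rw [hc, ← sg_mul, ← sg_conj M (sect (homN M n)) (cd m), hsect, map_mul, map_mul, map_mul]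
    group
  have hκ : ∀ n, κ n = sg (cd n) * pHomK (conjS (homN M n)) := fun n => rfl
  have hpsi : ∀ (v : Fin 2048) (h : D.psi s v.val ∈ Nm S), κ ⟨D.psi s v.val, h⟩ = sg v := by
    intro v h
    have h1 : homN M ⟨D.psi s v.val, h⟩ = 1 :=
      (hker.ge (show (⟨D.psi s v.val, h⟩ : ↥(Nm S)) ∈ (Au S).subgroupOf (Nm S) from D.psi_mem s v.val) : _)
    have h2 : cd ⟨D.psi s v.val, h⟩ = v := codeOf_eq M _ (by rw [h1, map_one, inv_one, mul_one])
    rw [hκ, h2, h1, map_one, map_one, mul_one]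
  refine ⟨κ, (injective_iff_map_eq_one κ).2 fun n hn => ?_, ?_, hpsi⟩
  · rw [hκ, sg, pHomK_apply, ← map_mul, Leech.CentOne.toCo_one_iff] at hn
    obtain ⟨e, hperm⟩ : ∃ e : ZMod 2, ∃ hm : (wd (cd n).val + fun _ => e) ∈ golayCode,
        permCo0 (conjS (homN M n)).1 (conjS (homN M n)).2 = signCo0 (wd (cd n).val + fun _ => e) hm := by
      rcases hn with h | h
      · refine ⟨0, ?_, ?_⟩
        · rw [show (wd (cd n).val + fun _ => (0 : ZMod 2)) = wd (cd n).val from funext fun p => add_zero _]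
          exact wd_mem (cd n).isLt
        · rw [eq_inv_of_mul_eq_one_right h, Leech.signCo0_inv]
          exact Leech.signCo0_congr (funext fun p => (add_zero _).symm) _ _
      · refine ⟨1, add_mem (wd_mem (cd n).isLt) Leech.one_mem, ?_⟩
        rw [eq_inv_mul_of_mul_eq h, Leech.signCo0_inv, zneg, Leech.signCo0_mul]
        rfl
    obtain ⟨hm, hperm⟩ := hperm
    obtain ⟨hσ, hw⟩ := perm_eq_sign _ hm hperm
    have hhom : homN M n = 1 := conjS.injective (by rw [map_one]; exact Subtype.ext hσ)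
    have hv : (cd n).val = 0 := wd_const (cd n).isLt e (funext fun p => by
      have := congrFun hw p
      simp only [Pi.add_apply, Pi.zero_apply] at this
      exact (CharTwo.add_eq_zero.1 this))
    have h0 : D.psi s 0 = 1 := by
      have h := D.psi_xor M.good s (x := 0) (y := 0) (by norm_num) (by norm_num)
      rw [Nat.xor_self] at h
      exact left_eq_mul.1 h
    have h := hcd n
    rw [hv, h0, hhom, map_one, inv_one, mul_one] at h
    exact Subtype.ext h
  · refine le_antisymm ?_ (sup_le ?_ ?_)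
    · rintro _ ⟨n, rfl⟩
      rw [hκ]
      exact mul_mem (Subgroup.mem_sup_left (Subgroup.subset_closure ⟨_, wd_mem (cd n).isLt, rfl⟩))
        (Subgroup.mem_sup_right (Subgroup.subset_closure ⟨_, (conjS (homN M n)).2, rfl⟩))
    · rw [A1, Subgroup.closure_le]
      rintro _ ⟨c, hc, rfl⟩
      obtain ⟨v, e, he⟩ := exists_code hc
      refine ⟨⟨D.psi s v.val, Subgroup.le_normalizer (D.psi_mem s v.val)⟩, ?_⟩
      rw [hpsi]
      exact (toCo_sign_eq _ _ e he).symm
    · rw [P1, Subgroup.closure_le]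
      rintro _ ⟨σ, hσ, rfl⟩
      refine ⟨sect (conjS.symm ⟨σ, hσ⟩), ?_⟩
      have h2 : cd (sect (conjS.symm ⟨σ, hσ⟩)) = 0 := by
        refine codeOf_eq M _ ?_
        rw [hsect, mul_inv_cancel]
        have h := D.psi_xor M.good s (x := 0) (y := 0) (by norm_num) (by norm_num)
        rw [Nat.xor_self] at h
        exact (left_eq_mul.1 h).symm
      rw [hκ, h2, sg_zero, one_mul, hsect, MulEquiv.apply_symm_apply]
      rfl

/-- The extraspecial group normalises `Au S`. -/
theorem oc_le_Nm (S : CoOne z) : oc z ≤ Nm S := fun x hx => by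
  refine CoOneGolay.mem_normalizer_of fun a ha => Subgroup.mem_centralizer_iff.2 fun b hb => ?_
  have hb' : x⁻¹ * b * x ∈ Uset S := by
    obtain ⟨hbo, u, hu⟩ := hb
    have hmem : x⁻¹ * b * x ∈ oc z := mul_mem (mul_mem (inv_mem hx) hbo) hx
    refine ⟨hmem, u, ?_⟩
    rw [S.pr_mul _ (mul_mem (inv_mem hx) hbo) _ hx, S.pr_mul _ (inv_mem hx) _ hbo, S.pr_inv hx, hu,
      add_right_comm, CoOneType.v_add_self, zero_add]
  have h := Subgroup.mem_centralizer_iff.1 ha _ hb'
  calc b * (x * a * x⁻¹) = x * ((x⁻¹ * b * x) * a) * x⁻¹ := by group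
    _ = x * (a * (x⁻¹ * b * x)) * x⁻¹ := by rw [h]
    _ = x * a * x⁻¹ * b := by group

/-- A copy of the monomial group in a group with the hypothesis. -/
theorem exists_kdata {G : Type u} [Group G] [Finite G] {z : G} (S0 : CoOne z) :
    ∃ S : CoOne z, Nonempty (KData S) := by
  obtain ⟨S, w, D, g, s, M⟩ := exists_model z S0
  obtain ⟨κ, hinj, hrange, hpsi⟩ := exists_kappa M
  have hz : z ∈ Nm S := oc_le_Nm S S.zmem
  refine ⟨S, ⟨⟨Nm S, hz, oc_le_Nm S,
    (MonoidHom.ofInjective hinj).trans (MulEquiv.subgroupCongr hrange), ?_⟩⟩⟩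
  show κ ⟨z, hz⟩ = zC
  have h1 : D.psi s ((1 : Fin 2048) : ℕ) = z := D.psi_one s
  have h2 : (⟨z, hz⟩ : ↥(Nm S)) = ⟨D.psi s ((1 : Fin 2048) : ℕ), h1.symm ▸ hz⟩ := Subtype.ext h1.symm
  rw [h2, hpsi, sg_one]

end Cfsg.Agent.CoOneUniq
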