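import Cfsg.Agent.CoOneUniq.Model

/-!
# The monomial elements of the linking equation

`linkU` is an involution moving the octad of `zC` to a disjoint one; `linkV` is its conjugate under the
sextet element; `linkX` centralises both sign changes and its product with the sextet element has
order three.
-/

set_option autoImplicit false
set_option maxRecDepth 100000

namespace Cfsg.Agent.CoOneUniq

/-- The involution outside the centraliser. -/
def linkU : MLet :=
  ⟨[21, 4, 10, 22, 1, 14, 17, 11, 13, 19, 2, 7, 18, 8, 5, 16, 15, 6, 12, 9, 23, 0, 3, 20], [21, 4, 10, 22, 1, 14, 17, 11, 13, 19, 2, 7, 18, 8, 5, 16, 15, 6, 12, 9, 23, 0, 3, 20], 7056347,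
    by decide +kernel, by decide +kernel, by decide +kernel, by decide +kernel, by decide +kernel⟩

/-- Its conjugate under the sextet element. -/
def linkV : MLet :=
  ⟨[21, 4, 14, 11, 1, 10, 13, 22, 17, 19, 5, 3, 23, 6, 2, 16, 15, 8, 20, 9, 18, 0, 7, 12], [21, 4, 14, 11, 1, 10, 13, 22, 17, 19, 5, 3, 23, 6, 2, 16, 15, 8, 20, 9, 18, 0, 7, 12], 9720868,
    by decide +kernel, by decide +kernel, by decide +kernel, by decide +kernel, by decide +kernel⟩

/-- An element of the common centraliser. -/
def linkX : MLet :=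
  ⟨[18, 13, 7, 2, 16, 10, 12, 3, 4, 21, 14, 11, 6, 17, 5, 19, 20, 0, 23, 15, 9, 8, 22, 1], [17, 23, 3, 7, 8, 14, 12, 2, 21, 20, 5, 11, 6, 1, 10, 19, 4, 13, 0, 15, 16, 9, 22, 18], 10973292,
    by decide +kernel, by decide +kernel, by decide +kernel, by decide +kernel, by decide +kernel⟩

end Cfsg.Agent.CoOneUniq
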