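import Cfsg.Agent.CoOneUniq.Eval
import Cfsg.Agent.CoOneUniq.Amalgam
import Cfsg.Agent.CoOneUniq.LinkData
import Cfsg.Agent.DCoset.WalkCover

/-!
# The map out of the model from an enumeration certificate

Every relator and all but two rules are equations inside the centraliser, so they hold in every group
with agreeing copies of the monomial group and of the centraliser; the two other rules follow from
the linking equation.
-/

set_option autoImplicit false
set_option maxRecDepth 100000

open Cfsg

namespace Cfsg.Agent.CoOneUniq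

open Cfsg.Agent.Leech (LGen)
open Cfsg.Agent.Leech.CentOne (toCo zC)
open Cfsg.Agent.CosetCert Cfsg.Agent.DCoset

universe u

/-- A rule inside the centraliser. -/
noncomputable def centRuleB (lets : ℕ → MLet) (L : Rules) (r : ℕ) : Bool :=
  centB (elG lets (L.rU r)) && centB (elG lets (L.rV r)) &&
    sameB (fcomp (tG (L.rS r)) (elG lets (L.rV r))) (fcomp (elG lets (L.rU r)) (tG (L.rD r)))

/-- A rule without an extra letter. -/
noncomputable def plainRuleB (L : Rules) (r : ℕ) : Bool :=
  Nat.beq (L.rS r) 0 && Nat.beq (L.rD r) 0 && Nat.beq (L.rU r) (L.rV r)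

/-- A rule carrying the linking element to its conjugate or back. -/
noncomputable def linkRuleB (lets : ℕ → MLet) (L : Rules) (r : ℕ) : Bool :=
  Nat.beq (L.rS r) 1 && Nat.beq (L.rD r) 1 &&
    (sameB (elG lets (L.rU r)) linkU.gen && sameB (elG lets (L.rV r)) linkV.gen ||
      sameB (elG lets (L.rU r)) linkV.gen && sameB (elG lets (L.rV r)) linkU.gen)

/-- A rule of the table. -/
noncomputable def ruleB (T : Tab) (lets : ℕ → MLet) (L : Rules) (r : ℕ) : Bool :=
  Nat.blt (L.rS r) 2 && Nat.blt (L.rD r) 2 && T.okWord (L.rU r) && T.okWord (L.rV r) &&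
    (plainRuleB L r || linkRuleB lets L r || centRuleB lets L r)

/-- A relator of the table. -/
noncomputable def relB (T : Tab) (lets : ℕ → MLet) (L : Rules) (r : ℕ) : Bool :=
  Nat.blt (L.relHd r) 2 && T.okWord (L.relTl r) && centB (elG lets (L.relTl r)) &&
    allLt (L.relLen r) (fun m =>
      Nat.blt (L.relT r m) 2 && T.okWord (L.relW r m) && centB (elG lets (L.relW r m))) &&
    sameB (fcomp (tG (L.relHd r)) (prodG ((List.range (L.relLen r)).map fun m =>
      fcomp (elG lets (L.relW r m)) (tG (L.relT r m))))) (elG lets (L.relTl r))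

/-- All rules and relators. -/
noncomputable def rulesB (T : Tab) (lets : ℕ → MLet) (L : Rules) : Bool :=
  Nat.beq L.nT 2 &&
    allLt 2 (fun τ => Nat.blt (L.invT τ) 2 && sameB (fcomp (tG τ) (tG (L.invT τ))) idG) &&
    allLt 2 (fun σ => allLt 2 fun τ => Nat.beq (L.mulT σ τ) 0 ||
      (Nat.blt (L.mulT σ τ - 1) 2 && sameB (fcomp (tG σ) (tG τ)) (tG (L.mulT σ τ - 1)))) &&
    allLt L.nRule (ruleB T lets L) && allLt L.nRel (relB T lets L)

section Sound

variable {P : QModel ↥N1} {L : Rules} {lets : ℕ → MLet}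
variable {D : Type u} [Group D] {a : ↥N1 →* D} {b : ↥C1 →* D}

/-- The extra letters in a group with a copy of the centraliser. -/
noncomputable def tEl (b : ↥C1 →* D) (τ : ℕ) : D := b ⟨toCo (tG τ).g, tG_mem τ⟩

theorem word_eq (hq : P.q = fun g => (lets g).el) (hab : Agree a b) {w : ℕ}
    (h : centB (elG lets w) = true) :
    val (P.toModel a).lv w = b ⟨toCo (elG lets w).g, mem_of_centB h⟩ := by
  have hc : ((P.el w : ↥N1) : Spor.Co1) ∈ C1 := by
    rw [QModel.el, hq, el_elG]
    exact mem_of_centB h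
  rw [P.el_val]
  refine (hab (P.el w : ↥N1).1 (P.el w).2 hc).trans (congrArg b (Subtype.ext ?_))
  show ((P.el w : ↥N1) : Spor.Co1) = _
  rw [QModel.el, hq, el_elG]

theorem val_eq_of_sameB (hq : P.q = fun g => (lets g).el) {w : ℕ} {l : MLet}
    (h : sameB (elG lets w) l.gen = true) : val (P.toModel a).lv w = a l.el := by
  rw [P.el_val]
  refine congrArg a (Subtype.ext ?_)
  rw [QModel.el, hq, el_elG]
  exact toCo_eq_of_sameB h

theorem linkV_eq : tX * linkU.el * tX = (linkV.el : Spor.Co1) := by
  have h : sameB (fcomp xiG (fcomp linkU.gen xiG)) linkV.gen = true := by decide +kernel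
  have e := toCo_eq_of_sameB h
  rw [toCo_comp, toCo_comp, toCo_xiG, ← mul_assoc] at e
  exact e

theorem linkU_sq : (linkU.el : Spor.Co1) * linkU.el = 1 := by
  have h : sameB (fcomp linkU.gen linkU.gen) idG = true := by decide +kernel
  have e := toCo_eq_of_sameB h
  rw [toCo_comp] at e
  exact e.trans (map_one toCo)

theorem tX_sq : tX * tX = 1 := by
  have h : sameB (fcomp xiG xiG) idG = true := by decide +kernel
  have e := toCo_eq_of_sameB h
  rw [toCo_comp, toCo_xiG] at e
  exact e.trans (map_one toCo)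

theorem link_cent : centB (fcomp linkU.gen (fcomp xiG linkU.gen)) = true := by decide +kernel

theorem link_diff_cent : centB (fcomp linkU.gen linkV.gen) = true := by decide +kernel

/-- The sextet element carries the linking element to its conjugate. -/
theorem link_eq (hab : Agree a b) (hl : Linked linkU.el.1 tX a b) :
    b ⟨tX, tX_mem⟩ * a linkV.el = a linkU.el * b ⟨tX, tX_mem⟩ ∧
      b ⟨tX, tX_mem⟩ * a linkU.el = a linkV.el * b ⟨tX, tX_mem⟩ := by
  set s := b ⟨tX, tX_mem⟩ with hs_def
  have hutu : (linkU.el : Spor.Co1) * tX * linkU.el ∈ C1 := by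
    have := mem_of_centB link_cent
    rw [toCo_comp, toCo_comp, toCo_xiG, ← mul_assoc] at this
    exact this
  have hd : (linkU.el : Spor.Co1) * linkV.el ∈ C1 := by
    have := mem_of_centB link_diff_cent
    rw [toCo_comp] at this
    exact this
  have hs : s * s = 1 := by
    rw [hs_def, ← map_mul, ← map_one b]
    exact congrArg b (Subtype.ext tX_sq)
  have hu : a linkU.el * a linkU.el = 1 := by
    rw [← map_mul, ← map_one a]
    exact congrArg a (Subtype.ext linkU_sq)
  have e : a linkU.el * s * a linkU.el = a linkU.el * a linkV.el * s := by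
    rw [hs_def, show a linkU.el * a linkV.el = a (linkU.el * linkV.el) from (map_mul a _ _).symm,
      hab _ (linkU.el * linkV.el).2 hd, ← map_mul]
    refine (hl linkU.el.2 tX_mem hutu).trans (congrArg b (Subtype.ext ?_))
    show (linkU.el : Spor.Co1) * tX * linkU.el = linkU.el * linkV.el * tX
    rw [← linkV_eq]
    simp only [mul_assoc, tX_sq, mul_one]
  have e2 : s * a linkU.el = a linkV.el * s := by
    calc s * a linkU.el = a linkU.el * (a linkU.el * s * a linkU.el) := by
          rw [← mul_assoc, ← mul_assoc, hu, one_mul]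
      _ = a linkV.el * s := by rw [e, ← mul_assoc, ← mul_assoc, hu, one_mul]
  refine ⟨?_, e2⟩
  calc s * a linkV.el = s * (a linkV.el * s) * s := by simp only [mul_assoc, hs, mul_one]
    _ = a linkU.el * s := by rw [← e2, ← mul_assoc, hs, one_mul]

theorem sound_of_check (hq : P.q = fun g => (lets g).el) (hab : Agree a b)
    (hl : Linked linkU.el.1 tX a b)
    (h : rulesB P.toTab lets L = true) : L.Sound (P.toModel a) (tEl b) := by
  simp only [rulesB, Bool.and_eq_true, Nat.beq_eq] at h
  obtain ⟨⟨⟨⟨h2, hinv⟩, hmul⟩, hrule⟩, hrel⟩ := h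
  constructor
  · show b ⟨_, _⟩ = 1
    rw [← map_one b]
    exact congrArg b (Subtype.ext (map_one toCo))
  · intro τ hτ
    rw [h2] at hτ ⊢
    have e := allLt_spec hinv τ hτ
    simp only [Bool.and_eq_true, Nat.blt_eq] at e
    refine ⟨e.1, ?_⟩
    rw [tEl, tEl, ← map_mul, ← map_one b]
    refine congrArg b (Subtype.ext ?_)
    show toCo _ * toCo _ = 1
    rw [← toCo_comp, toCo_eq_of_sameB e.2]
    exact map_one toCo
  · intro σ τ hσ hτ hne
    rw [h2] at hσ hτ ⊢
    have e := allLt_spec (allLt_spec hmul σ hσ) τ hτ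
    simp only [Bool.or_eq_true, Bool.and_eq_true, Nat.blt_eq, Nat.beq_eq] at e
    obtain ⟨e1, e2⟩ := e.resolve_left hne
    refine ⟨e1, ?_⟩
    rw [tEl, tEl, tEl, ← map_mul]
    refine congrArg b (Subtype.ext ?_)
    show toCo _ * toCo _ = _
    rw [← toCo_comp, toCo_eq_of_sameB e2]
  · intro r hr
    have e := allLt_spec hrule r hr
    simp only [ruleB, Bool.and_eq_true, Nat.blt_eq] at e
    obtain ⟨⟨⟨⟨hS, hD⟩, hU⟩, hV⟩, e⟩ := e
    rw [h2]
    refine ⟨hS, hD, hU, hV, ?_⟩
    have hone : tEl b 0 = 1 := by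
      rw [← map_one b]
      exact congrArg b (Subtype.ext (map_one toCo))
    simp only [Bool.or_eq_true, plainRuleB, linkRuleB, centRuleB, Bool.and_eq_true, Nat.beq_eq] at e
    rcases e with (⟨⟨e1, e2⟩, e3⟩ | ⟨⟨e1, e2⟩, e3⟩) | ⟨⟨cU, cV⟩, he⟩
    · rw [e1, e2, e3, hone, one_mul, mul_one]
    · have hT : tEl b 1 = b ⟨tX, tX_mem⟩ := rfl
      rw [e1, e2, hT]
      obtain ⟨g1, g2⟩ := link_eq hab hl
      rcases e3 with ⟨hu', hv'⟩ | ⟨hu', hv'⟩ <;> rw [val_eq_of_sameB hq hu', val_eq_of_sameB hq hv']
      exacts [g1, g2]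
    rw [word_eq hq hab cU, word_eq hq hab cV, tEl, tEl, ← map_mul, ← map_mul]
    refine congrArg b (Subtype.ext ?_)
    show toCo _ * toCo _ = toCo _ * toCo _
    rw [← toCo_comp, ← toCo_comp, toCo_eq_of_sameB he]
  · intro r hr
    have e := allLt_spec hrel r hr
    simp only [relB, Bool.and_eq_true, Nat.blt_eq] at e
    obtain ⟨⟨⟨⟨hH, hT⟩, cT⟩, hm⟩, he⟩ := e
    have hm' : ∀ m, m < L.relLen r → L.relT r m < 2 ∧ P.toTab.okWord (L.relW r m) = true ∧
        centB (elG lets (L.relW r m)) = true := fun m hlt => by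
      have e' := allLt_spec hm m hlt
      simp only [Bool.and_eq_true, Nat.blt_eq] at e'
      exact ⟨e'.1.1, e'.1.2, e'.2⟩
    rw [h2]
    refine ⟨hH, hT, fun m hlt => ⟨(hm' m hlt).1, (hm' m hlt).2.1⟩, ?_⟩
    let F : ℕ → ↥C1 := fun m => if hlt : m < L.relLen r then
      ⟨toCo (elG lets (L.relW r m)).g, mem_of_centB (hm' m hlt).2.2⟩ *
        ⟨toCo (tG (L.relT r m)).g, tG_mem _⟩ else 1
    have hF : ∀ m ∈ List.range (L.relLen r),
        val (P.toModel a).lv (L.relW r m) * tEl b (L.relT r m) = b (F m) := fun m hm'' => by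
      have hlt := List.mem_range.1 hm''
      rw [word_eq hq hab (hm' m hlt).2.2, tEl, ← map_mul]
      exact congrArg b (by simp only [F, dif_pos hlt])
    rw [List.map_congr_left hF,
      show (List.range (L.relLen r)).map (fun m => b (F m)) =
        ((List.range (L.relLen r)).map F).map b by rw [List.map_map]; rfl,
      ← map_list_prod, tEl, ← map_mul, word_eq hq hab cT]
    refine congrArg b (Subtype.ext ?_)
    show toCo (tG (L.relHd r)).g * (((List.range (L.relLen r)).map F).prod : ↥C1).1 = _
    refine Eq.trans ?_ (toCo_eq_of_sameB he)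
    rw [toCo_comp, toCo_prodG, Subgroup.val_list_prod, List.map_map,
      List.map_map]
    refine congrArg (fun l => toCo (tG (L.relHd r)).g * List.prod l)
      (List.map_congr_left fun m hm'' => ?_)
    simp only [Function.comp_apply, F, dif_pos (List.mem_range.1 hm''), Subgroup.coe_mul, toCo_comp]

end Sound

/-- The checks on a chain of the whole monomial group. -/
structure ChainOK (T : Tab) (K : QModel.Chain) (nG : ℕ) : Prop where
  prod : ((List.range T.k).map K.size).prod = 501397585920
  gen : ∀ l a, l < T.k → a < K.nGen l → QModel.checkGen T K l a = true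
  low : ∀ l a, l < T.k → a < K.nGen l →
    lettersBelow nG (K.gen l a % 65536) (K.gen l a / 65536) = true
  pt : ∀ l m, l < T.k → m < K.size l → QModel.checkPt T K l m = true

/-- The certificate gives the universal property. -/
theorem hasTheta_of (T : Tab) (lets : ℕ → MLet) (K : QModel.Chain) {Ru : Rules} {S : Steps}
    {C : WalkCover} (hact : ∀ g, g < T.nL → actOKRow T (lets g) g = true)
    (hlt : ∀ g p, T.act g p < 65536) (hb : T.base = pk16 T.k fun l => (basePt T l).val)
    (hK : ChainOK T K C.nG)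
    (hsteps : ∀ s, s < S.len → Steps.check S Ru T s = true)
    (hsrc : ∀ j, 1 ≤ j → j < S.nNode → S.nodeSrc j < j)
    (hV : C.Valid S Ru T 501397585920)
    (hsum : ((List.range C.nLive).map C.idx).sum = 8292375)
    (hrules : rulesB T lets Ru = true) (H : Type u) [Group H] [Finite H] :
    HasTheta linkU.el.1 tX H := by
  have hfN : Finite ↥N1 := inferInstance
  let A := acts_of hact hlt hb
  let P : QModel ↥N1 := A.toQModel (A.faithful K card_N1.le hK.prod hK.gen hK.pt)
  have hgen : Subgroup.closure {x | ∃ g, g < C.nG ∧ x = P.q g} = ⊤ := by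
    refine Subgroup.eq_top_of_le_card _ ?_
    rw [card_N1, ← hK.prod]
    refine P.card_ge _ K (fun l a hl ha => ?_) hK.gen hK.pt
    exact valW_mem P.q C.nG (Subgroup.closure {x | ∃ g, g < C.nG ∧ x = P.q g})
      (fun g hg => Subgroup.subset_closure ⟨g, hg, rfl⟩) _ _ (hK.low l a hl ha)
  refine hasTheta_of_bound ?_ H
  intro D _ _ a b hab hl hg
  have hnT : Ru.nT = 2 := by
    simp only [rulesB, Bool.and_eq_true, Nat.beq_eq] at hrules
    exact hrules.1.1.1.1
  have hL := sound_of_check (P := P) (a := a) (b := b) rfl hab hl hrules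
  have hgenG : Subgroup.closure (Set.range a ∪ {x | ∃ τ, τ < Ru.nT ∧ x = tEl b τ}) = ⊤ := by
    rw [eq_top_iff, ← hg]
    refine Subgroup.closure_mono (Set.union_subset_union_right _ ?_)
    rintro x rfl
    exact ⟨1, by omega, rfl⟩
  have hlv : ∀ g, g < (P.toModel a).nL → (P.toModel a).lv g ∈ a.range := fun g _ =>
    MonoidHom.mem_range.2 ⟨P.q g, rfl⟩
  have hF := Steps.holds (D := S) (Hs := a.range) hL hlv hsrc (by omega) hsteps
  obtain ⟨-, hle⟩ := WalkCover.index_le (P := P) a (tEl b) card_N1.le hgen hgenG hL hV hF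
  rw [hsum] at hle
  have h1 : Nat.card a.range ≤ 501397585920 :=
    card_N1 ▸ Nat.card_le_card_of_surjective _ (MonoidHom.rangeRestrict_surjective a)
  rw [show Nat.card Spor.Co1 = 4157776806543360000 from Leech.simple_co1.2,
    ← Subgroup.card_mul_index a.range]
  exact le_trans (Nat.mul_le_mul h1 hle) (by norm_num)

end Cfsg.Agent.CoOneUniq
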