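import Cfsg.Agent.CoOneUniq.CentIso
import Cfsg.Agent.CoOneUniq.ThetaOf

/-!
# The linking equation holds in every group with the hypothesis

With `u`, `t` the elements in the group, `w = u z u` lies in `oc z` and is centralised by `t`, so
`u t u` centralises `z`.  It acts on the elements of `oc z` commuting with `w` as the conjugate in the
model does, and an isometry fixing the perpendicular of a singular vector is trivial; so the two differ
by an element of `{1, z, w, z w}`.  That element dies in the cube of the product with an element of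
the common centraliser whose product with the sextet element has order three.
-/

set_option autoImplicit false
set_option maxRecDepth 100000
set_option maxHeartbeats 1000000

open Cfsg Cfsg.Agent.ThreeTrans.OrthCohom Cfsg.Agent.Classical.Quad QuadraticMap Cfsg.Agent.LargeExtra
  Cfsg.Agent.CoOneType
open Cfsg.Agent.Leech (LGen)
open Cfsg.Agent.Leech.CentOne (toCo zC)
open Cfsg.Agent.Leech.CentTwo (tGen kG)

namespace Cfsg.Agent.CoOneUniq

/-- An isometry fixing the perpendicular of a singular vector is the identity. -/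
theorem isometry_trivial (g : O) {e : V} (hq : qP 4 e = 0) (hfix : ∀ v, Bp v e = 0 → g.1 v = v)
    (x : V) : g.1 x = x := by
  have he : g.1 e = e := hfix e (Bp_self e)
  have hiso : ∀ a b, Bp (g.1 a) (g.1 b) = Bp a b := fun a b => by
    simp only [Bp, polar]
    rw [← map_add, g.2, g.2, g.2]
  rcases CoOneType.zmod_cases (Bp x e) with h | h
  · exact hfix x h
  set a := g.1 x + x with ha
  have key : ∀ v, Bp v e = 0 → Bp a v = 0 := fun v hv => by
    have h1 := hiso x v
    rw [hfix v hv] at h1
    rw [ha, Bp_add_left, h1]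
    exact (by decide : ∀ c : ZMod 2, c + c = 0) _
  have hall : ∀ v, Bp a v = Bp (Bp a x • e) v := fun v => by
    have h1 := key (v + Bp v e • x) (by
      rw [Bp_add_left, Bp_smul_left, h, mul_one]
      exact (by decide : ∀ c : ZMod 2, c + c = 0) _)
    rw [Bp_add_right, Bp_smul_right] at h1
    rw [Bp_smul_left, Bp_comm e v, mul_comm]
    exact (by decide : ∀ c d : ZMod 2, c + d = 0 → c = d) _ _ h1
  have hae : a = Bp a x • e :=
    (LinearMap.BilinForm.toDual (polarBilin (qP 4)) nondegP4).injective (LinearMap.ext hall)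
  rcases CoOneType.zmod_cases (Bp a x) with h0 | h0 <;> rw [h0] at hae
  · rw [zero_smul] at hae
    exact v_eq_of_add hae
  · exfalso
    rw [one_smul] at hae
    have hgx : g.1 x = x + e := by
      rw [← hae, ha, add_comm (g.1 x), ← add_assoc, v_add_self, zero_add]
    have := g.2 x
    rw [hgx, q_add, hq, h, add_zero] at this
    exact one_ne_zero (add_eq_left.1 this)

/-- An element of the model kernel as a list map. -/
noncomputable def qG : LGen where
  g := (kG 14).1.1
  f := Leech.CentTwo.kF 14
  spec v := Leech.CentTwo.kG_spec 14 v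

theorem linkW_mem : (linkU.el : Spor.Co1) * zC * linkU.el ∈ oc zC := by
  have h : sameB (fcomp linkU.gen (fcomp tGen linkU.gen)) qG = true := by decide +kernel
  have e := toCo_eq_of_sameB h
  rw [toCo_comp, toCo_comp, ← mul_assoc] at e
  change toCo linkU.gen.g * toCo tGen.g * toCo linkU.gen.g ∈ oc zC
  rw [e, oc_model_eq]
  exact ⟨Leech.CentOne.phi (Leech.CentOne.kin (kG 14)), ⟨_, Leech.CentOne.rho_kin _, rfl⟩, rfl⟩

theorem sameB0_of_eq {a b : LGen} (h : a.g = b.g) : sameB0 a b = true := by
  have key : ∀ n, n ≤ 24 → allLt n (fun i => forceL (a.f (octL i)) fun x => forceL (b.f (octL i)) fun y =>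
      Leech.Model.eqZ x y) = true := fun n hn => by
    induction n with
    | zero => rfl
    | succ n ih =>
      simp only [allLt, Bool.and_eq_true]
      refine ⟨?_, ih (by omega)⟩
      rw [forceL_eq, forceL_eq, ← toL_oct ⟨n, by omega⟩, ← a.spec, ← b.spec, h]
      exact Leech.Model.eqZ_refl _
  exact key 24 le_rfl

theorem linkW_ne : (linkU.el : Spor.Co1) * zC * linkU.el ≠ zC := by
  intro h
  have hc : (linkU.el : Spor.Co1) ∈ C1 := by
    rw [Subgroup.mem_centralizer_singleton_iff]
    calc (linkU.el : Spor.Co1) * zC = linkU.el * zC * linkU.el * linkU.el := by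
          rw [mul_assoc _ (linkU.el : Spor.Co1) linkU.el, linkU_sq, mul_one]
      _ = zC * linkU.el := by rw [h]
  have hb : centB linkU.gen = false := by decide +kernel
  have h1 := Subgroup.mem_centralizer_singleton_iff.1 hc
  change toCo linkU.gen.g * toCo tGen.g = toCo tGen.g * toCo linkU.gen.g at h1
  rw [← toCo_comp, ← toCo_comp] at h1
  have hcases := Leech.CentOne.toCo_eq_iff.1 h1
  revert hb
  rw [imp_false, Bool.not_eq_false]
  simp only [centB, sameB, Bool.or_eq_true]
  rcases hcases with e | e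
  · exact Or.inl (sameB0_of_eq e.symm)
  · refine Or.inr (sameB0_of_eq ?_)
    show _ = Leech.zneg * _
    rw [e, ← mul_assoc, Leech.zneg_comm, ← mul_assoc, ← pow_two, Leech.zneg_sq, one_mul]

theorem linkX_mem : (linkX.el : Spor.Co1) ∈ C1 :=
  mem_of_centB (show centB linkX.gen = true by decide +kernel)

theorem linkX'_mem : (linkU.el : Spor.Co1) * linkX.el * linkU.el ∈ C1 := by
  have := mem_of_centB (show centB (fcomp linkU.gen (fcomp linkX.gen linkU.gen)) = true by decide +kernel)
  rw [toCo_comp, toCo_comp, ← mul_assoc] at this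
  exact this

theorem linkX_cube : tX * (linkX.el : Spor.Co1) * (tX * linkX.el) * (tX * linkX.el) = 1 := by
  have h : sameB (fcomp (fcomp xiG linkX.gen) (fcomp (fcomp xiG linkX.gen) (fcomp xiG linkX.gen))) idG = true := by
    decide +kernel
  have e := toCo_eq_of_sameB h
  simp only [toCo_comp, toCo_xiG] at e
  rw [mul_assoc]
  exact e.trans (map_one toCo)

theorem linkU_tX : (linkU.el : Spor.Co1) * tX * linkU.el ∈ C1 := by
  have := mem_of_centB link_cent
  rw [toCo_comp, toCo_comp, toCo_xiG, ← mul_assoc] at this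
  exact this

universe u

variable {G : Type u} [Group G] [Finite G] {z : G} {S : CoOne z}

/-- The images of the identifications satisfy the linking equation. -/
theorem KData.linked (K : KData S) (e : ↥(Subgroup.centralizer ({z} : Set G)) ≃* ↥C1)
    (he : ∀ (x : G) (h1 : x ∈ K.N) (h2 : x ∈ Subgroup.centralizer ({z} : Set G)),
      (e ⟨x, h2⟩ : Spor.Co1) = K.κ ⟨x, h1⟩) :
    Linked linkU.el.1 tX (K.N.subtype.comp K.κ.symm.toMonoidHom)
      ((Subgroup.centralizer ({z} : Set G)).subtype.comp e.symm.toMonoidHom) := by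
  set f := K.N.subtype.comp K.κ.symm.toMonoidHom
  set g := (Subgroup.centralizer ({z} : Set G)).subtype.comp e.symm.toMonoidHom
  have hfg : ∀ (x : Spor.Co1) (h1 : x ∈ N1) (h2 : x ∈ C1), f ⟨x, h1⟩ = g ⟨x, h2⟩ := fun x h1 h2 => by
    set y := K.κ.symm ⟨x, h1⟩
    have hy : K.iota y = x := congrArg Subtype.val (K.κ.apply_symm_apply ⟨x, h1⟩)
    have hc : (y : G) * z = z * y := (K.iota_mem_iff y).1 (hy ▸ h2)
    have hcz := Subgroup.mem_centralizer_singleton_iff.2 hc
    have : e ⟨y, hcz⟩ = ⟨x, h2⟩ := Subtype.ext ((he _ y.2 hcz).trans hy)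
    exact congrArg Subtype.val (e.eq_symm_apply.2 this)
  have hgC : ∀ x, g x * z = z * g x := fun x => Subgroup.mem_centralizer_singleton_iff.1 (e.symm x).2
  have hgi : Function.Injective g := Subtype.val_injective.comp e.symm.injective
  have hfN : ∀ x, f x ∈ K.N := fun x => (K.κ.symm x).2
  have hmemQ : ∀ x : ↥N1, f x ∈ oc z ↔ (x : Spor.Co1) ∈ oc zC := fun x => by
    refine (K.map_oc (K.κ.symm x)).trans ?_
    rw [MulEquiv.apply_symm_apply]
  intro hu ht hutu
  obtain ⟨SC⟩ := exists_model_co
  set u0 : Spor.Co1 := linkU.el.1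
  set u := f ⟨u0, hu⟩
  set t := g ⟨tX, ht⟩
  set d := g ⟨u0 * tX * u0, hutu⟩
  have huu : u * u = 1 := by
    rw [← map_mul, ← map_one f]
    exact congrArg f (Subtype.ext linkU_sq)
  have hu00 : u0 * u0 = 1 := linkU_sq
  have hu0 : ∀ a : Spor.Co1, u0 * (u0 * a) = a := fun a => by rw [← mul_assoc, hu00, one_mul]
  -- the second sign change
  set w' : Spor.Co1 := u0 * zC * u0
  have hw'C : w' ∈ C1 := LargeExtra.oc_le zC linkW_mem
  have hw'N : w' ∈ N1 := oc_model_le linkW_mem
  set w := f ⟨w', hw'N⟩
  have hwQ : w ∈ oc z := (hmemQ _).2 linkW_mem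
  have hfz : ∀ h : zC ∈ N1, f ⟨zC, h⟩ = z := fun h => by
    have : K.κ.symm ⟨zC, h⟩ = ⟨z, K.z_mem⟩ := K.κ.symm_apply_eq.2 (Subtype.ext K.map_z.symm)
    exact congrArg Subtype.val this
  have hzN : zC ∈ N1 := oc_model_le SC.zmem
  have hwe : w = u * z * u := by
    rw [← hfz hzN, ← map_mul, ← map_mul]
    exact congrArg f (Subtype.ext rfl)
  have htw' : tX * w' = w' * tX := by
    have h1 : u0 * tX * u0 * zC = zC * (u0 * tX * u0) :=
      Subgroup.mem_centralizer_singleton_iff.1 hutu
    calc tX * w' = u0 * (u0 * tX * u0 * zC) * u0 := by simp only [w', mul_assoc, hu0]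
      _ = w' * tX := by rw [h1]; simp only [w', mul_assoc, hu0, hu00, mul_one]
  have hgw : g ⟨w', hw'C⟩ = w := (hfg _ hw'N hw'C).symm
  have htw : t * w = w * t := by
    rw [← hgw, ← map_mul, ← map_mul]
    exact congrArg g (Subtype.ext htw')
  set t' := u * t * u
  have ht'z : t' * z = z * t' := by
    calc t' * z = u * t * (u * z * u) * u := by simp only [t', mul_assoc, huu, mul_one]
      _ = u * (w * t) * u := by rw [← hwe, mul_assoc u t w, htw]
      _ = z * t' := by
        rw [hwe]
        calc u * (u * z * u * t) * u = u * u * z * u * t * u := by group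
          _ = z * t' := by rw [huu, one_mul]; simp only [t', mul_assoc]
  -- both act alike on the perpendicular of `w`
  have hsame : ∀ q ∈ oc z, q * w = w * q → t' * q * t'⁻¹ = d * q * d⁻¹ := by
    intro q hq hqw
    obtain ⟨q', hq'⟩ : ∃ q' : ↥N1, f q' = q :=
      ⟨K.κ ⟨q, K.oc_le hq⟩, congrArg Subtype.val (K.κ.symm_apply_apply ⟨q, K.oc_le hq⟩)⟩
    have hq'Q : (q' : Spor.Co1) ∈ oc zC := (hmemQ q').1 (hq' ▸ hq)
    have hq'w : (q' : Spor.Co1) * w' = w' * q' := by
      refine congrArg Subtype.val (show q' * ⟨w', hw'N⟩ = ⟨w', hw'N⟩ * q' from ?_)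
      apply K.κ.symm.injective
      apply K.N.subtype_injective
      show f (q' * _) = f (_ * q')
      rw [map_mul, map_mul, hq']
      exact hqw
    -- the conjugate under `u`
    have hrC : u0 * q' * u0 ∈ C1 := by
      rw [Subgroup.mem_centralizer_singleton_iff]
      calc u0 * q' * u0 * zC = u0 * ((q' : Spor.Co1) * w') * u0 := by
            simp only [w', mul_assoc, hu0, hu00, mul_one]
        _ = zC * (u0 * q' * u0) := by rw [hq'w]; simp only [w', mul_assoc, hu0]
    have hconj : tX * (u0 * q' * u0) * tX⁻¹ = u0 * (u0 * tX * u0 * q' * (u0 * tX * u0)⁻¹) * u0 := by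
      have hi : u0⁻¹ = u0 := inv_eq_of_mul_eq_one_right hu00
      simp only [mul_inv_rev, hi, mul_assoc, hu0, hu00, mul_one]
    have hyQ : u0 * tX * u0 * q' * (u0 * tX * u0)⁻¹ ∈ oc zC :=
      SC.nrm (Subgroup.mem_centralizer_singleton_iff.1 hutu) hq'Q
    have hyN : tX * (u0 * q' * u0) * tX⁻¹ ∈ N1 := by
      rw [hconj]
      exact mul_mem (mul_mem hu (oc_model_le hyQ)) hu
    have hyC : tX * (u0 * q' * u0) * tX⁻¹ ∈ C1 := mul_mem (mul_mem ht hrC) (inv_mem ht)
    have hi : u⁻¹ = u := inv_eq_of_mul_eq_one_right huu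
    calc t' * q * t'⁻¹ = u * (t * (u * q * u) * t⁻¹) * u := by
          simp only [t', mul_inv_rev, hi, mul_assoc]
      _ = u * (t * g ⟨u0 * q' * u0, hrC⟩ * t⁻¹) * u := by
          rw [← hfg _ (mul_mem (mul_mem hu q'.2) hu) hrC, ← hq', ← map_mul, ← map_mul]
          rfl
      _ = u * f ⟨_, hyN⟩ * u := by
          rw [hfg _ hyN hyC, ← map_inv, ← map_mul, ← map_mul]
          rfl
      _ = f ⟨_, oc_model_le hyQ⟩ := by
          rw [← map_mul, ← map_mul]
          refine congrArg f (Subtype.ext ?_)
          show u0 * (tX * (u0 * q' * u0) * tX⁻¹) * u0 = _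
          rw [hconj]
          simp only [mul_assoc, hu0, hu00, mul_one]
      _ = d * q * d⁻¹ := by
          rw [← hq', show f q' = g ⟨(q' : Spor.Co1), LargeExtra.oc_le zC hq'Q⟩ from hfg _ q'.2 _,
            hfg _ _ (LargeExtra.oc_le zC hyQ), ← map_inv, ← map_mul, ← map_mul]
          rfl
  -- their quotient
  have hd : d * z = z * d := hgC _
  set r := d⁻¹ * t'
  have hrz : r * z = z * r :=
    ((show Commute d z from hd).inv_left.mul_left (show Commute t' z from ht'z)).eq
  have hrfix : ∀ q ∈ oc z, q * w = w * q → r * q * r⁻¹ = q := fun q hq hqw => by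
    rw [show r * q * r⁻¹ = d⁻¹ * (t' * q * t'⁻¹) * d by simp only [r]; group, hsame q hq hqw]
    group
  have hact : S.act r = 1 := by
    refine Subtype.ext (LinearEquiv.ext fun v => ?_)
    refine isometry_trivial (S.act r) (e := S.pr w) ?_ (fun x hx => ?_) v
    · refine zp_inj S.zne ?_
      rw [← S.pr_sq w hwQ, zp_zero, hwe]
      calc u * z * u * (u * z * u) = u * (z * z) * u := by simp only [mul_assoc]; rw [← mul_assoc u u, huu, one_mul]
        _ = 1 := by rw [S.zz, mul_one, huu]
    · obtain ⟨a, ha, rfl⟩ := S.pr_surj x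
      rw [← S.act_spec r hrz a ha, hrfix a ha ((S.commute_iff ha hwQ).2 hx)]
  have hrQ : r ∈ oc z := S.act_ker r hrz hact
  have hr4 : r = 1 ∨ r = z ∨ r = w ∨ r = w * z := by
    have hperp : ∀ x, Bp x (S.pr w) = 0 → Bp (S.pr r) x = 0 := fun x hx => by
      obtain ⟨a, ha, rfl⟩ := S.pr_surj x
      exact (S.commute_iff hrQ ha).1 (mul_inv_eq_iff_eq_mul.1 (hrfix a ha ((S.commute_iff ha hwQ).2 hx)))
    have hw0 : S.pr w ≠ 0 := fun h0 => by
      rcases S.pr_ker w hwQ h0 with e1 | e1
      · refine S.zne ?_
        rw [hwe] at e1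
        calc z = u * (u * z * u) * u := by simp only [mul_assoc]; rw [← mul_assoc u u, huu, one_mul, mul_one]
          _ = 1 := by rw [e1, mul_one, huu]
      · refine linkW_ne (show w' = zC from ?_)
        have := (K.κ.symm.injective (K.N.subtype_injective (e1.trans (hfz hzN).symm)))
        exact congrArg Subtype.val this
    obtain ⟨x, hx⟩ : ∃ x, Bp x (S.pr w) = 1 := by
      by_contra hcon
      push Not at hcon
      refine hw0 ((LinearMap.BilinForm.toDual (polarBilin (qP 4)) nondegP4).injective
        (LinearMap.ext fun x => ?_))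
      show Bp (S.pr w) x = Bp 0 x
      rw [Bp_comm, Bp_zero_left]
      exact (CoOneType.zmod_cases _).resolve_right (hcon x)
    have hall : S.pr r = Bp (S.pr r) x • S.pr w := by
      refine (LinearMap.BilinForm.toDual (polarBilin (qP 4)) nondegP4).injective (LinearMap.ext fun v => ?_)
      show Bp (S.pr r) v = Bp (Bp (S.pr r) x • S.pr w) v
      have h1 := hperp (v + Bp v (S.pr w) • x) (by
        rw [Bp_add_left, Bp_smul_left, hx, mul_one]
        exact (by decide : ∀ c : ZMod 2, c + c = 0) _)
      rw [Bp_add_right, Bp_smul_right] at h1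
      rw [Bp_smul_left, Bp_comm (S.pr w) v, mul_comm]
      exact (by decide : ∀ c d : ZMod 2, c + d = 0 → c = d) _ _ h1
    rcases CoOneType.zmod_cases (Bp (S.pr r) x) with h0 | h0 <;> rw [h0] at hall
    · rw [zero_smul] at hall
      rcases S.pr_ker r hrQ hall with e1 | e1
      exacts [Or.inl e1, Or.inr (Or.inl e1)]
    · rw [one_smul] at hall
      rcases S.pr_eq hwQ hrQ hall.symm with e1 | e1
      exacts [Or.inr (Or.inr (Or.inl e1)), Or.inr (Or.inr (Or.inr e1))]
  -- the cube kills it
  have hdX : d * w = w * d := by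
    rw [← hgw, ← map_mul, ← map_mul]
    refine congrArg g (Subtype.ext ?_)
    show u0 * tX * u0 * w' = w' * (u0 * tX * u0)
    have h1 : tX * zC = zC * tX := Subgroup.mem_centralizer_singleton_iff.1 ht
    calc u0 * tX * u0 * w' = u0 * (tX * zC) * u0 := by simp only [w', mul_assoc, hu0]
      _ = w' * (u0 * tX * u0) := by rw [h1]; simp only [w', mul_assoc, hu0]
  have hxN : u0 * linkX.el * u0 ∈ N1 := mul_mem (mul_mem hu linkX.el.2) hu
  set x := g ⟨(linkX.el : Spor.Co1), linkX_mem⟩ with hx_def
  set x' := g ⟨u0 * linkX.el * u0, linkX'_mem⟩ with hx'_def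
  have hxw : x' * w = w * x' := by
    rw [hx'_def, ← hgw, ← map_mul, ← map_mul]
    refine congrArg g (Subtype.ext ?_)
    show u0 * linkX.el * u0 * w' = w' * (u0 * linkX.el * u0)
    have h1 : (linkX.el : Spor.Co1) * zC = zC * linkX.el :=
      Subgroup.mem_centralizer_singleton_iff.1 linkX_mem
    calc u0 * linkX.el * u0 * w' = u0 * ((linkX.el : Spor.Co1) * zC) * u0 := by
          simp only [w', mul_assoc, hu0]
      _ = w' * (u0 * linkX.el * u0) := by rw [h1]; simp only [w', mul_assoc, hu0]
  have hux : u * x * u = x' := by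
    rw [hx_def, ← hfg _ linkX.el.2 linkX_mem, hx'_def, ← hfg _ hxN linkX'_mem, ← map_mul, ← map_mul]
    rfl
  have hcube : t * x * (t * x) * (t * x) = 1 := by
    rw [hx_def, ← map_mul, ← map_mul, ← map_mul, ← map_one g]
    exact congrArg g (Subtype.ext linkX_cube)
  have hcube' : d * x' * (d * x') * (d * x') = 1 := by
    rw [hx'_def, ← map_mul, ← map_mul, ← map_mul, ← map_one g]
    refine congrArg g (Subtype.ext ?_)
    show u0 * tX * u0 * (u0 * linkX.el * u0) * (u0 * tX * u0 * (u0 * linkX.el * u0)) *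
      (u0 * tX * u0 * (u0 * linkX.el * u0)) = 1
    calc _ = u0 * (tX * linkX.el * (tX * linkX.el) * (tX * linkX.el)) * u0 := by
          simp only [mul_assoc, hu0]
      _ = 1 := by rw [linkX_cube, mul_one, hu00]
  have hcr : Commute r (d * x') ∧ r * r = 1 := by
    have hc : ∀ a : G, a = 1 ∨ a = z ∨ a = w ∨ a = w * z → Commute a (d * x') := by
      intro a ha
      have cz : Commute z (d * x') := (show Commute z d from hd.symm).mul_right (hgC _).symm
      have cw : Commute w (d * x') := (show Commute w d from hdX.symm).mul_right hxw.symm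
      rcases ha with rfl | rfl | rfl | rfl
      exacts [Commute.one_left _, cz, cw, cw.mul_left cz]
    refine ⟨hc r hr4, ?_⟩
    have hww : w * w = 1 := by
      rw [← map_mul, ← map_one f]
      refine congrArg f (Subtype.ext ?_)
      show w' * w' = 1
      simp only [w', mul_assoc, hu0]
      rw [← mul_assoc zC zC, SC.zz, one_mul, hu00]
    have hwz : w * z = z * w := S.comm hwQ
    rcases hr4 with e1 | e1 | e1 | e1 <;> rw [e1]
    · exact one_mul 1
    · exact S.zz
    · exact hww
    · calc w * z * (w * z) = w * (z * w) * z := by group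
        _ = 1 := by rw [← hwz, ← mul_assoc, hww, one_mul, S.zz]
  have h3 : (d * r) * x' * ((d * r) * x') * ((d * r) * x') = 1 := by
    have htr : d * r = t' := mul_inv_cancel_left d t'
    rw [htr, ← hux]
    calc t' * (u * x * u) * (t' * (u * x * u)) * (t' * (u * x * u))
        = u * (t * x * (t * x) * (t * x)) * u := by
          simp only [t', mul_assoc]
          simp only [← mul_assoc u u, huu, one_mul]
      _ = 1 := by rw [hcube, mul_one, huu]
  have hrd : r * d = d * r := by
    have cz : Commute z d := hd.symm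
    have cw : Commute w d := hdX.symm
    rcases hr4 with e1 | e1 | e1 | e1 <;> rw [e1]
    exacts [(Commute.one_left d).eq, cz.eq, cw.eq, (cw.mul_left cz).eq]
  have hr1 : r = 1 := by
    have h4 : (r * (d * x')) ^ 3 = 1 := by
      rw [← mul_assoc, hrd, pow_three, ← mul_assoc]
      exact h3
    have h5 : (d * x') ^ 3 = 1 := by
      rw [pow_three, ← mul_assoc]
      exact hcube'
    rw [hcr.1.mul_pow, h5, mul_one, pow_three, hcr.2, mul_one] at h4
    exact h4
  show u * t * u = d
  exact (inv_mul_eq_one.1 hr1).symm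

end Cfsg.Agent.CoOneUniq
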