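import Cfsg.Agent.CoOneUniq.Transport
import Cfsg.Agent.CoOneUniq.Local.SevenGens

/-!
# The two local subgroups in a group with the hypothesis
-/

set_option autoImplicit false

open Cfsg Cfsg.Agent.CoOneType

namespace Cfsg.Agent.CoOneUniq.Local

universe u

/-- Both subgroups, from the bound on the centraliser of the element of order seven upstairs. -/
theorem exists_locals {G : Type u} [Group G] [Finite G] {z : G} (S : CoOne z)
    (hC : Nat.card ↥(Subgroup.centralizer ({Seven.vG.g} : Set ↥Co0)) ≤ 35280) :
    (∃ V : Subgroup G, Nat.card V = 7 ∧ Nonempty (↥(Subgroup.centralizer (V : Set G)) ≃*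
        Multiplicative (ZMod 7) × alternatingGroup (Fin 7))) ∧
      ∃ W : Subgroup G, Nat.card W = 3 ∧ Nonempty (↥(Subgroup.normalizer (W : Set G)) ≃*
        Equiv.Perm (Fin 3) × alternatingGroup (Fin 9)) := by
  obtain ⟨φ, -⟩ := exists_iso S
  exact ⟨exists_centralizer_transport φ (Seven.exists_V hC),
    exists_normalizer_transport φ WThree.exists_W⟩

end Cfsg.Agent.CoOneUniq.Local
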