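import Cfsg.Agent.CoOneUniq.ThetaOf
import Cfsg.Agent.CoOneUniq.Enum.Cert
import Cfsg.Agent.CoOneUniq.Enum.Letters
import Cfsg.Agent.CoOneUniq.Enum.KChain
import Cfsg.Agent.CoOneUniq.Theta.Rules
import Cfsg.Agent.CoOneUniq.Theta.Act0
import Cfsg.Agent.CoOneUniq.Theta.Act1
import Cfsg.Agent.CoOneUniq.Theta.Act2
import Cfsg.Agent.CoOneUniq.Theta.Act3
import Cfsg.Agent.CoOneUniq.Theta.Act4

/-!
# The universal property of the amalgam
-/

set_option autoImplicit false
set_option maxRecDepth 100000

open Cfsg Cfsg.Agent.DCoset Cfsg.Agent.CosetCert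

namespace Cfsg.Agent.CoOneUniq

universe u

open Enum in
theorem Enum.act_all : ∀ g, g < tab.nL → actOKRow tab (lets g) g = true := by
  intro g hg
  change g < 13 at hg
  interval_cases g
  · exact act_0
  · exact act_1
  · exact act_2
  · exact act_3
  · exact act_4
  · exact act_5
  · exact act_6
  · exact act_7
  · exact act_8
  · exact act_9
  · exact act_10
  · exact act_11
  · exact act_12

open Enum in
theorem Enum.chain_ok : ChainOK tab kChain cover.nG where
  prod := by decide +kernel
  gen l a hl ha := allFrom_all (allFrom_all k_gen hl : _) ha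
  low l a hl ha := allFrom_all (allFrom_all k_low hl : _) ha
  pt l m hl hm := allFrom_all (allFrom_all k_pt hl : _) hm

open Enum in
/-- The model is the universal group of the linked amalgam. -/
theorem hasTheta (H : Type u) [Group H] [Finite H] : HasTheta linkU.el.1 tX H :=
  hasTheta_of tab lets kChain act_all tab_act_lt (by decide +kernel) chain_ok steps_ok node_src
    valid idx_sum rules_ok H

end Cfsg.Agent.CoOneUniq
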