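import Cfsg.Agent.CoOneUniq.Kappa
import Cfsg.Agent.CoOneUniq.CentIso
import Cfsg.Agent.CoOneUniq.LinkProof
import Cfsg.Agent.CoOneUniq.Theta
import Cfsg.Agent.CoOneUniq.Final

/-!
# Uniqueness of the first Conway group

A group with the hypothesis receives a map from the model by the universal property of the linked
amalgam; it is injective by simplicity and onto by the endgame.
-/

set_option autoImplicit false

open Cfsg Cfsg.Agent.CoOneType
open Cfsg.Agent.Leech.CentOne (toCo zC)

namespace Cfsg.Agent.CoOneUniq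

universe u

/-- A group with the hypothesis is the first Conway group; the involution goes to the marked one. -/
theorem exists_iso {G : Type u} [Group G] [Finite G] {z : G} (S0 : CoOne z) :
    ∃ φ : Spor.Co1 ≃* G, φ zC = z := by
  obtain ⟨S, ⟨K⟩⟩ := exists_kdata S0
  obtain ⟨e, he⟩ := K.hasCentIso
  set f := K.N.subtype.comp K.κ.symm.toMonoidHom
  set g := (Subgroup.centralizer ({z} : Set G)).subtype.comp e.symm.toMonoidHom
  have hfg : Agree f g := fun x h1 h2 => by
    set y := K.κ.symm ⟨x, h1⟩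
    have hy : K.iota y = x := congrArg Subtype.val (K.κ.apply_symm_apply ⟨x, h1⟩)
    have hc : (y : G) * z = z * y := (K.iota_mem_iff y).1 (hy ▸ h2)
    have hcz := Subgroup.mem_centralizer_singleton_iff.2 hc
    have : e ⟨y, hcz⟩ = ⟨x, h2⟩ := Subtype.ext ((he _ y.2 hcz).trans hy)
    exact congrArg Subtype.val (e.eq_symm_apply.2 this)
  obtain ⟨θ, hθf, hθg⟩ := hasTheta G f g hfg (K.linked e he)
  have hzN : zC ∈ N1 := K.map_z ▸ (K.κ ⟨z, K.z_mem⟩).2
  have hθz : θ zC = z := by
    refine (hθf ⟨zC, hzN⟩).trans ?_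
    exact congrArg Subtype.val
      (K.κ.symm_apply_eq.2 (Subtype.ext K.map_z.symm) : K.κ.symm ⟨zC, hzN⟩ = ⟨z, K.z_mem⟩)
  have hC : Subgroup.centralizer ({z} : Set G) ≤ θ.range := fun x hx =>
    ⟨(e ⟨x, hx⟩ : Spor.Co1), (hθg (e ⟨x, hx⟩)).trans (congrArg Subtype.val (e.symm_apply_apply ⟨x, hx⟩))⟩
  have hinj : Function.Injective θ := by
    have : IsSimpleGroup Spor.Co1 := Leech.simple_co1.1
    rw [← MonoidHom.ker_eq_bot_iff]
    rcases θ.normal_ker.eq_bot_or_eq_top with h | h
    · exact h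
    · exfalso
      refine S.zne (hθz ▸ ?_)
      exact (MonoidHom.mem_ker).1 (h ▸ Subgroup.mem_top zC)
  have hsurj : Function.Surjective θ :=
    MonoidHom.range_eq_top.1 (range_eq_top S θ hinj hθz hC)
  exact ⟨MulEquiv.ofBijective θ ⟨hinj, hsurj⟩, hθz⟩

end Cfsg.Agent.CoOneUniq
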