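import Cfsg.Agent.CoOneUniq.CentModel

/-!
The identification of the monomial groups maps the extraspecial group onto that of the model.
-/

set_option autoImplicit false

open Cfsg Cfsg.Agent.ThreeTrans.OrthCohom Cfsg.Agent.Classical.Quad QuadraticMap Cfsg.Agent.LargeExtra
  Cfsg.Agent.CoOneType
open Cfsg.Agent.Leech.CentOne (toCo zC QC)
open scoped Classical

namespace Cfsg.Agent.CoOneUniq

universe u

variable {G : Type u} [Group G] [Finite G] {z : G}

theorem card_isotropic (W : Submodule (ZMod 2) V) (h : ∀ x ∈ W, ∀ y ∈ W, Bp x y = 0) :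
    Nat.card ↥W ≤ 16 := by
  have h2 := LinearMap.BilinForm.finrank_orthogonal nondegP4 W
  have hle : W ≤ LinearMap.BilinForm.orthogonal (polarBilin (qP 4)) W := fun x hx y hy => h y hy x hx
  have h3 := Submodule.finrank_mono hle
  have hV : Module.finrank (ZMod 2) V = 8 := by simp
  rw [hV] at h2
  have h5 : Module.finrank (ZMod 2) ↥(LinearMap.BilinForm.orthogonal (polarBilin (qP 4)) W) =
      8 - Module.finrank (ZMod 2) ↥W := h2
  have h6 : Module.finrank (ZMod 2) ↥W ≤
      Module.finrank (ZMod 2) ↥(LinearMap.BilinForm.orthogonal (polarBilin (qP 4)) W) := h3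
  have h4 : Module.finrank (ZMod 2) ↥W ≤ 4 := by omega
  rw [Module.natCard_eq_pow_finrank (K := ZMod 2), Nat.card_zmod]
  exact (Nat.pow_le_pow_right (by norm_num) h4).trans_eq (by norm_num)

theorem card_abelian (S : CoOne z) (A : Subgroup G) (hA : A ≤ oc z)
    (hc : ∀ a ∈ A, ∀ b ∈ A, a * b = b * a) : Nat.card ↥A ≤ 32 := by
  let W : Submodule (ZMod 2) V :=
    { carrier := S.pr '' (A : Set G)
      add_mem' := by
        rintro _ _ ⟨a, ha, rfl⟩ ⟨b, hb, rfl⟩
        exact ⟨a * b, mul_mem ha hb, S.pr_mul a (hA ha) b (hA hb)⟩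
      zero_mem' := ⟨1, one_mem A, S.pr_one⟩
      smul_mem' := by
        rintro c _ ⟨a, ha, rfl⟩
        rcases CoOneType.zmod_cases c with rfl | rfl
        · exact ⟨1, one_mem A, by rw [zero_smul, S.pr_one]⟩
        · exact ⟨a, ha, by rw [one_smul]⟩ }
  have hW := card_isotropic W (by
    rintro _ ⟨a, ha, rfl⟩ _ ⟨b, hb, rfl⟩
    exact (S.commute_iff (hA ha) (hA hb)).1 (hc a ha b hb))
  choose l hlm hl using fun w : ↥W => (w.2 : ∃ a ∈ (A : Set G), S.pr a = (w : V))
  let φ : ↥A → ↥W × Bool := fun a =>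
    (⟨S.pr a, a, a.2, rfl⟩, decide ((a : G) = l ⟨S.pr a, a, a.2, rfl⟩))
  have hφ : Function.Injective φ := by
    intro a b hab
    have hp := congrArg Prod.fst hab
    have hd := congrArg Prod.snd hab
    simp only [φ] at hp hd
    rw [← hp] at hd
    set c := l ⟨S.pr a, a, a.2, rfl⟩
    have hcm : c ∈ A := hlm _
    have hca : S.pr c = S.pr a := hl _
    refine Subtype.ext ?_
    by_cases h : (a : G) = c
    · rw [decide_eq_true h, eq_comm, decide_eq_true_iff] at hd
      rw [h, hd]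
    · rw [decide_eq_false h, eq_comm, decide_eq_false_iff_not] at hd
      have ha' := (S.pr_eq (hA hcm) (hA a.2) hca).resolve_left h
      have hb' := (S.pr_eq (hA hcm) (hA b.2) (hca.trans (congrArg Subtype.val hp))).resolve_left hd
      rw [ha', hb']
  refine (Nat.card_le_card_of_injective φ hφ).trans ?_
  rw [Nat.card_prod, show Nat.card Bool = 2 by simp]
  omega

theorem toCo_monGen (P Q : List ℕ) (m : ℕ) (h1 h2 hP hσ hm) :
    toCo (Leech.monGen P Q m h1 h2 hP hσ hm).g ∈ N1 := by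
  show toCo (Leech.permCo0 _ _ * Leech.signCo0 _ _) ∈ N1
  rw [map_mul]
  exact mul_mem (Subgroup.mem_sup_right (Subgroup.subset_closure ⟨_, _, rfl⟩))
    (Subgroup.mem_sup_left (Subgroup.subset_closure ⟨_, _, rfl⟩))

theorem toCo_kG (i : Fin 512) : toCo (Leech.CentTwo.kG i).1.1 ∈ N1 := by
  have key : ∀ (L : List (↥Leech.CentTwo.act.ker × (List ℤ → List ℤ))) (k : ℕ),
      (∀ a ∈ L, toCo a.1.1.1 ∈ N1) → toCo (Leech.CentTwo.kEl i L k).1.1 ∈ N1 := by
    intro L
    induction L with
    | nil => exact fun _ _ => by simp only [Leech.CentTwo.kEl, OneMemClass.coe_one, map_one]; exact one_mem _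
    | cons a t ih =>
      intro k h
      have h' := ih (k + 1) fun b hb => h b (List.mem_cons_of_mem _ hb)
      simp only [Leech.CentTwo.kEl]
      split_ifs
      · rw [Subgroup.coe_mul, Subgroup.coe_mul, map_mul]
        exact mul_mem (h a List.mem_cons_self) h'
      · exact h'
  refine key _ 0 fun a ha => ?_
  obtain ⟨⟨b, hb⟩, -, rfl⟩ := List.mem_map.1 ha
  show toCo b.g ∈ N1
  simp only [Leech.CentTwo.kGens, List.mem_cons, List.not_mem_nil, or_false] at hb
  rcases hb with rfl | rfl | rfl | rfl | rfl | rfl | rfl | rfl | rfl <;> exact toCo_monGen _ _ _ _ _ _ _ _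

theorem oc_model_eq : oc zC = QC.map C1.subtype := by
  obtain ⟨SC⟩ := exists_model_co
  have hle : QC.map C1.subtype ≤ oc zC := by
    have : Fact (Nat.Prime 2) := ⟨Nat.prime_two⟩
    exact Subgroup.map_mono
      (Core.le_pCore (IsPGroup.of_card (n := 9) Leech.CentOne.QC_extraspecial.2))
  refine (Subgroup.eq_of_le_of_card_ge hle ?_).symm
  rw [SC.card, Nat.card_congr (QC.equivMapOfInjective _ C1.subtype_injective).toEquiv.symm,
    Leech.CentOne.QC_extraspecial.2]

theorem oc_model_le : oc zC ≤ N1 := by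
  rw [oc_model_eq]
  rintro _ ⟨_, ⟨g, hg, rfl⟩, rfl⟩
  show toCo g.1 ∈ N1
  obtain ⟨k, h⟩ := Leech.CentOne.ker_cases (MonoidHom.mem_ker.1 hg)
  obtain ⟨i, rfl⟩ := Leech.CentTwo.kG_surjective k
  rcases h with rfl | rfl
  · exact toCo_kG i
  · rw [Subgroup.coe_mul, map_mul, Leech.CentOne.toCo_znegE, one_mul]
    exact toCo_kG i

theorem normSub_model : Cent.NormSub (oc zC) := by
  obtain ⟨SC⟩ := exists_model_co
  exact ⟨le_inf oc_model_le (oc_le zC), fun c hc r hr => oc_conj_mem hc.2 hr, SC.zmem,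
    by rw [SC.card]; norm_num, card_abelian SC⟩

variable {S : CoOne z} (K : KData S)

/-- The identification as a map into the model. -/
noncomputable def KData.iota : ↥K.N →* Spor.Co1 := N1.subtype.comp K.κ.toMonoidHom

theorem KData.iota_inj : Function.Injective K.iota := N1.subtype_injective.comp K.κ.injective

theorem KData.iota_z : K.iota ⟨z, K.z_mem⟩ = zC := K.map_z

theorem KData.iota_mem_iff (x : ↥K.N) : K.iota x ∈ C1 ↔ (x : G) * z = z * x := by
  rw [Subgroup.mem_centralizer_singleton_iff, ← K.iota_z, ← map_mul, ← map_mul, K.iota_inj.eq_iff]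
  exact ⟨fun h => congrArg Subtype.val h, fun h => Subtype.ext h⟩

/-- The image of the extraspecial group. -/
noncomputable def KData.imgQ : Subgroup Spor.Co1 := ((oc z).subgroupOf K.N).map K.iota

theorem KData.mem_imgQ (x : ↥K.N) : K.iota x ∈ K.imgQ ↔ (x : G) ∈ oc z :=
  Subgroup.mem_map_iff_mem K.iota_inj

theorem KData.normSub : Cent.NormSub K.imgQ := by
  refine ⟨?_, ?_, ?_, ?_, ?_⟩
  · rintro _ ⟨x, hx, rfl⟩
    exact ⟨(K.κ x).2, (K.iota_mem_iff x).2 (S.comm hx)⟩
  · rintro c hc _ ⟨x, hx, rfl⟩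
    obtain ⟨y, hy⟩ := K.κ.surjective ⟨c, hc.1⟩
    have e : K.iota y = c := congrArg Subtype.val hy
    rw [← e, ← map_inv, ← map_mul, ← map_mul, K.mem_imgQ]
    exact S.nrm ((K.iota_mem_iff y).1 (e ▸ hc.2)) hx
  · exact K.iota_z ▸ (K.mem_imgQ _).2 S.zmem
  · rw [KData.imgQ, Subgroup.card_map_of_injective K.iota_inj,
      Nat.card_congr (Subgroup.subgroupOfEquivOfLe K.oc_le).toEquiv, S.card]
    norm_num
  · intro A hA hc
    have hle : A ≤ K.iota.range := hA.trans (Subgroup.map_le_range _ _)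
    have hB : (A.comap K.iota).map K.N.subtype ≤ oc z := by
      rintro _ ⟨x, hx, rfl⟩
      exact (K.mem_imgQ x).1 (hA hx)
    have h := card_abelian S _ hB (by
      rintro _ ⟨x, hx, rfl⟩ _ ⟨y, hy, rfl⟩
      show ((x * y : ↥K.N) : G) = ((y * x : ↥K.N) : G)
      rw [show x * y = y * x from K.iota_inj (by rw [map_mul, map_mul]; exact hc _ hx _ hy)])
    rw [Subgroup.card_map_of_injective K.N.subtype_injective] at h
    rwa [← Subgroup.card_map_of_injective K.iota_inj, Subgroup.map_comap_eq_self hle] at h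

theorem KData.imgQ_eq : K.imgQ = oc zC := Cent.unique K.normSub normSub_model

/-- The extraspecial groups correspond. -/
theorem KData.map_oc (x : K.N) : (x : G) ∈ oc z ↔ (K.κ x : Spor.Co1) ∈ oc zC := by
  rw [← K.imgQ_eq, ← K.mem_imgQ x]
  rfl

end Cfsg.Agent.CoOneUniq
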