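import Cfsg.Agent.CoOneUniq.Defs
import Cfsg.Agent.Leech.SignGroup
import Cfsg.Agent.DCoset.PermModel
import Cfsg.Agent.Compute.M24Base

/-!
# The monomial group as permutations of the cosets of the coordinate permutations

The cosets are numbered by the eleven coordinates of `wordM`; a monomial letter is checked against
its permutation on masks.
-/

set_option autoImplicit false
set_option maxRecDepth 100000

open Cfsg

namespace Cfsg.Agent.CoOneUniq

open Cfsg.Agent.Leech (LGen monGen monF idx ptOf bitWord permCo0 signCo0 zneg)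
open Cfsg.Agent.Leech.CentOne (toCo)
open Cfsg.Agent.CosetCert Cfsg.Agent.DCoset

/-- The coordinate permutations in the quotient. -/
noncomputable def pHom : ↥Cfsg.M24 →* Spor.Co1 :=
  MonoidHom.mk' (fun σ => toCo (permCo0 σ.1 σ.2)) fun a b => by
    rw [← map_mul]
    refine congrArg toCo (Leech.ext_of_oct fun i => Subtype.ext (funext fun q => ?_))
    rw [mul_smul, Leech.permCo0_apply, Leech.permCo0_apply, Leech.permCo0_apply]
    simp [mul_inv_rev]

/-- The sign changes in the quotient. -/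
noncomputable def sHom : Multiplicative ↥golayCode →* Spor.Co1 :=
  MonoidHom.mk' (fun c => toCo (signCo0 c.toAdd.1 c.toAdd.2)) fun a b => by
    rw [← map_mul, Leech.signCo0_mul]
    rfl

theorem A1_eq : A1 = sHom.range := by
  refine le_antisymm ((Subgroup.closure_le _).2 ?_) ?_
  · rintro x ⟨c, hc, rfl⟩
    exact ⟨Multiplicative.ofAdd ⟨c, hc⟩, rfl⟩
  · rintro x ⟨c, rfl⟩
    exact Subgroup.subset_closure ⟨_, c.toAdd.2, rfl⟩

theorem P1_eq : P1 = pHom.range := by
  refine le_antisymm ((Subgroup.closure_le _).2 ?_) ?_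
  · rintro x ⟨σ, hσ, rfl⟩
    exact ⟨⟨σ, hσ⟩, rfl⟩
  · rintro x ⟨σ, rfl⟩
    exact Subgroup.subset_closure ⟨σ.1, σ.2, rfl⟩

/-- The code word seen through a coordinate permutation. -/
def moved (σ : ↥Cfsg.M24) (c : Multiplicative ↥golayCode) : Multiplicative ↥golayCode :=
  Multiplicative.ofAdd ⟨fun q => c.toAdd.1 (σ.1⁻¹ q),
    Leech.comp_mem_of_M24 (inv_mem σ.2) c.toAdd.2⟩

theorem perm_mul_sign (σ : ↥Cfsg.M24) (c : Multiplicative ↥golayCode) :
    pHom σ * sHom c = sHom (moved σ c) * pHom σ := by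
  rw [← mul_inv_eq_iff_eq_mul]
  show toCo _ * toCo _ * (toCo _)⁻¹ = toCo _
  rw [← map_inv, ← map_mul, ← map_mul, Leech.conj_perm_sign]
  rfl

/-- The elements of the monomial group are products. -/
theorem mem_N1_iff {x : Spor.Co1} : x ∈ N1 ↔ ∃ c σ, x = sHom c * pHom σ := by
  constructor
  · intro hx
    rw [N1, A1_eq, P1_eq, Subgroup.sup_eq_closure] at hx
    refine Subgroup.closure_induction (p := fun x _ => ∃ c σ, x = sHom c * pHom σ) ?_
      ⟨1, 1, by simp⟩ ?_ ?_ hx
    · rintro y (⟨c, rfl⟩ | ⟨σ, rfl⟩)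
      · exact ⟨c, 1, by simp⟩
      · exact ⟨1, σ, by simp⟩
    · rintro a b - - ⟨c, σ, rfl⟩ ⟨d, τ, rfl⟩
      refine ⟨c * moved σ d, σ * τ, ?_⟩
      rw [map_mul, map_mul]
      calc sHom c * pHom σ * (sHom d * pHom τ) = sHom c * (pHom σ * sHom d) * pHom τ := by group
        _ = _ := by rw [perm_mul_sign]; group
    · rintro a - ⟨c, σ, rfl⟩
      refine ⟨moved σ⁻¹ c⁻¹, σ⁻¹, ?_⟩
      rw [mul_inv_rev, ← map_inv, ← map_inv, perm_mul_sign]
  · rintro ⟨c, σ, rfl⟩
    exact mul_mem (Subgroup.mem_sup_left (A1_eq ▸ ⟨c, rfl⟩))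
      (Subgroup.mem_sup_right (P1_eq ▸ ⟨σ, rfl⟩))

theorem sHom_mem (c : Multiplicative ↥golayCode) : sHom c ∈ N1 :=
  mem_N1_iff.2 ⟨c, 1, by simp⟩

theorem pHom_mem (σ : ↥Cfsg.M24) : pHom σ ∈ N1 := mem_N1_iff.2 ⟨1, σ, by simp⟩

theorem oct_apply (i q : GolayPt) :
    (Leech.oct i : GolayPt → ℤ) q = if q = i then 8 else 0 := by
  show (Pi.single i 8 : GolayPt → ℤ) q = _
  rw [Pi.single_apply]

/-- A product is trivial only for the obvious sign changes. -/
theorem prod_unique {c : Multiplicative ↥golayCode} {σ : ↥Cfsg.M24}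
    (h : sHom c * pHom σ = 1) : σ = 1 ∧ (c.toAdd.1 = 0 ∨ c.toAdd.1 = 1) := by
  change toCo _ * toCo _ = 1 at h
  rw [← map_mul, Leech.CentOne.toCo_one_iff] at h
  have key : ∃ e : ℤ, (e = 1 ∨ e = -1) ∧ ∀ v : leechLattice, ∀ q,
      ((signCo0 c.toAdd.1 c.toAdd.2 * permCo0 σ.1 σ.2) • v : leechLattice).1 q =
        e * (v : GolayPt → ℤ) q := by
    rcases h with h | h <;> rw [h]
    · exact ⟨1, Or.inl rfl, fun v q => by rw [one_smul, one_mul]⟩
    · exact ⟨-1, Or.inr rfl, fun v q => by rw [Leech.zneg_smul]; simp⟩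
  obtain ⟨e, he, hv⟩ := key
  have hσ : ∀ q, σ.1⁻¹ q = q := fun q => by
    by_contra hne
    have h1 := hv (Leech.oct q) q
    rw [mul_smul, Leech.signCo0_apply] at h1
    simp only [Leech.negOn, Leech.permCo0_apply, oct_apply, if_neg hne, if_pos rfl] at h1
    rcases he with rfl | rfl <;> simp at h1
  have h1 : σ = 1 := Subtype.ext (Equiv.ext fun q => by
    have := congrArg σ.1 (hσ q)
    rw [← Equiv.Perm.mul_apply, mul_inv_cancel] at this
    simpa using this.symm)
  refine ⟨h1, ?_⟩
  have hc : ∀ q, c.toAdd.1 q = if e = 1 then 0 else 1 := fun q => by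
    have h2 := hv (Leech.oct q) q
    rw [mul_smul, Leech.signCo0_apply] at h2
    simp only [Leech.negOn, Leech.permCo0_apply, hσ q, oct_apply, if_pos rfl] at h2
    rcases Leech.zmod2_cases (c.toAdd.1 q) with e' | e' <;> rw [e'] at h2 ⊢ <;>
      rcases he with rfl | rfl <;> simp at h2 ⊢
  rcases he with rfl | rfl
  · exact Or.inl (funext fun q => by simpa using hc q)
  · exact Or.inr (funext fun q => by simpa using hc q)

theorem pHom_injective : Function.Injective pHom := by
  rw [injective_iff_map_eq_one]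
  intro σ h
  exact (prod_unique (c := 1) (by rw [map_one, one_mul, h])).1

theorem sHom_mem_P1 {c : Multiplicative ↥golayCode} (h : sHom c ∈ P1) :
    c.toAdd.1 = 0 ∨ c.toAdd.1 = 1 := by
  rw [P1_eq] at h
  obtain ⟨σ, hσ⟩ := h
  exact (prod_unique (c := c) (σ := σ⁻¹) (by rw [map_inv, hσ, mul_inv_cancel])).2

/-- Masks of even weight dual to `wordTab`. -/
def unMask : List ℕ := [249, 1235, 1968, 1940, 399, 3648, 1275, 616, 1680, 2400, 495]

/-- Reads the coordinates back from a mask. -/
def unWord (m : ℕ) : ℕ :=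
  (List.range 11).foldr (fun k v => 2 * v + (List.range 12).foldr
    (fun i p => if ((unMask.getD k 0).testBit i && m.testBit i) then 1 - p else p) 0) 0

theorem unWord_spec : ∀ v : Fin 2048,
    unWord (wordM v.val) = v.val ∧ unWord (wordM v.val ^^^ 16777215) = v.val := by
  decide +kernel

theorem wordTab_code : ∀ k : Fin 11,
    Leech.dec (bitWord (wordTab.getD k.val 0)) = bitWord (wordTab.getD k.val 0) := by
  decide +kernel

theorem wordM_mem (v : ℕ) : bitWord (wordM v) ∈ golayCode := by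
  rw [wordM]
  suffices ∀ l : List ℕ, (∀ k ∈ l, k < 11) → bitWord (l.foldr
      (fun k m => m ^^^ (if v.testBit k then wordTab.getD k 0 else 0)) 0) ∈ golayCode from
    this _ fun k hk => List.mem_range.1 hk
  intro l hl
  induction l with
  | nil => rw [List.foldr_nil, Leech.bitWord_zero]; exact zero_mem _
  | cons k l ih =>
    rw [List.foldr_cons, Leech.bitWord_xor]
    refine add_mem (ih fun j hj => hl j (List.mem_cons_of_mem _ hj)) ?_
    split_ifs
    · exact (Leech.mem_iff _).2 (wordTab_code ⟨k, hl k List.mem_cons_self⟩)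
    · rw [Leech.bitWord_zero]; exact zero_mem _

/-- The code word of a coordinate vector. -/
def vWord (v : ℕ) : Multiplicative ↥golayCode :=
  Multiplicative.ofAdd ⟨bitWord (wordM v), wordM_mem v⟩

theorem bitWord_full : bitWord 16777215 = (1 : GolayPt → ZMod 2) := by decide +kernel

theorem testBit_of_bitWord {a b : ℕ} (h : bitWord a = bitWord b) {i : ℕ} (hi : i < 24) :
    a.testBit i = b.testBit i := by
  have := congrFun h (ptOf i)
  simp only [bitWord, Leech.idx_ptOf i hi] at this
  cases ha : a.testBit i <;> cases hb : b.testBit i <;> simp [ha, hb] at this ⊢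

theorem unWord_congr {a b : ℕ} (h : bitWord a = bitWord b) : unWord a = unWord b := by
  unfold unWord
  refine List.foldr_ext _ _ _ fun k _ v => ?_
  congr 1
  refine List.foldr_ext _ _ _ fun i hi p => ?_
  rw [testBit_of_bitWord h (show i < 24 from (List.mem_range.1 hi).trans (by norm_num))]

theorem vWord_inj {v w : Fin 2048}
    (h : bitWord (wordM v.val) = bitWord (wordM w.val) ∨
      bitWord (wordM v.val) = bitWord (wordM w.val) + 1) : v = w := by
  refine Fin.ext ?_
  rcases h with h | h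
  · rw [← (unWord_spec v).1, ← (unWord_spec w).1, unWord_congr h]
  · rw [← (unWord_spec v).1, ← (unWord_spec w).2]
    exact unWord_congr (by rw [Leech.bitWord_xor, bitWord_full, h])

theorem card_code : Nat.card ↥golayCode = 4096 := by
  rw [Module.natCard_eq_pow_finrank (K := ZMod 2), Leech.finrank_golayCode, Nat.card_zmod]
  norm_num

theorem add_one_one : (1 : GolayPt → ZMod 2) + 1 = 0 := funext fun _ => rfl

theorem exists_vWord (c : ↥golayCode) : ∃ v : Fin 2048,
    c.1 = bitWord (wordM v.val) ∨ c.1 = bitWord (wordM v.val) + 1 := by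
  classical
  have : Finite ↥golayCode := Subtype.finite
  let f : Fin 2048 × Bool → ↥golayCode := fun p =>
    if p.2 then ⟨_, add_mem (wordM_mem p.1.val) Leech.one_mem⟩ else ⟨_, wordM_mem p.1.val⟩
  have hne : (1 : GolayPt → ZMod 2) ≠ 0 := fun h => absurd (congrFun h none) (by decide)
  have hinj : Function.Injective f := by
    rintro ⟨v, a⟩ ⟨w, b⟩ h
    have h' := congrArg Subtype.val h
    cases a <;> cases b <;> simp only [f, Bool.false_eq_true, if_false, if_true] at h'
    · rw [vWord_inj (Or.inl h')]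
    · rw [vWord_inj (Or.inr h')] at h'
      exact absurd (left_eq_add.1 h') hne
    · rw [vWord_inj (v := v) (w := w) (Or.inr (by rw [← h', add_assoc, add_one_one, add_zero]))] at h'
      exact absurd (add_eq_left.1 h') hne
    · rw [vWord_inj (Or.inl (add_right_cancel h'))]
  have hb : Function.Bijective f := (Nat.bijective_iff_injective_and_card f).2
    ⟨hinj, by rw [Nat.card_prod, Nat.card_fin, card_code]; simp⟩
  obtain ⟨⟨v, a⟩, hv⟩ := hb.2 c
  refine ⟨v, ?_⟩
  cases a
  · exact Or.inl (congrArg Subtype.val hv).symm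
  · exact Or.inr (congrArg Subtype.val hv).symm

theorem sHom_eq_one {c : Multiplicative ↥golayCode} (h : c.toAdd.1 = 1) : sHom c = 1 := by
  show toCo _ = 1
  refine Leech.CentOne.toCo_one_iff.2 (Or.inr ?_)
  exact Leech.signCo0_congr h _ _

theorem sHom_congr {c : Multiplicative ↥golayCode} {v : ℕ}
    (h : c.toAdd.1 = bitWord (wordM v) ∨ c.toAdd.1 = bitWord (wordM v) + 1) :
    sHom c = sHom (vWord v) := by
  rcases h with h | h
  · exact congrArg sHom (Multiplicative.toAdd.injective (Subtype.ext h))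
  · rw [show c = vWord v * Multiplicative.ofAdd ⟨1, Leech.one_mem⟩ from
      Multiplicative.toAdd.injective (Subtype.ext h), map_mul,
      sHom_eq_one (c := Multiplicative.ofAdd ⟨1, Leech.one_mem⟩) rfl, mul_one]

/-- The coordinate permutations inside the monomial group. -/
abbrev PN : Subgroup ↥N1 := P1.subgroupOf N1

/-- The coset of a coordinate vector. -/
noncomputable def cosetV (v : Fin 2048) : ↥N1 ⧸ PN :=
  QuotientGroup.mk (⟨sHom (vWord v.val), sHom_mem _⟩ : ↥N1)

theorem coset_bijective : Function.Bijective cosetV := by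
  constructor
  · intro v w h
    rw [cosetV, cosetV, QuotientGroup.eq, Subgroup.mem_subgroupOf] at h
    change (sHom (vWord v.val))⁻¹ * sHom (vWord w.val) ∈ P1 at h
    rw [← map_inv, ← map_mul] at h
    have h' := sHom_mem_P1 h
    change -bitWord (wordM v.val) + bitWord (wordM w.val) = 0 ∨ _ = 1 at h'
    rcases h' with h' | h'
    · exact vWord_inj (Or.inl (neg_add_eq_zero.1 h'))
    · refine (vWord_inj (Or.inr ?_)).symm
      exact (neg_add_eq_iff_eq_add.1 h')
  · intro x
    induction x using QuotientGroup.induction_on with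
    | _ y =>
      obtain ⟨c, σ, hy⟩ := mem_N1_iff.1 y.2
      obtain ⟨v, hv⟩ := exists_vWord c.toAdd
      refine ⟨v, ?_⟩
      rw [cosetV, QuotientGroup.eq, Subgroup.mem_subgroupOf]
      show (sHom (vWord v.val))⁻¹ * (y : Spor.Co1) ∈ P1
      rw [hy, sHom_congr hv, inv_mul_cancel_left]
      exact P1_eq ▸ ⟨σ, rfl⟩

theorem card_N1 : Nat.card ↥N1 = 501397585920 := by
  rw [Subgroup.card_eq_card_quotient_mul_card_subgroup PN,
    Nat.card_congr (Equiv.ofBijective _ coset_bijective).symm, Nat.card_fin,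
    Nat.card_congr (Subgroup.subgroupOfEquivOfLe (show P1 ≤ N1 from le_sup_right)).toEquiv, P1_eq,
    ← Nat.card_congr (MonoidHom.ofInjective pHom_injective).toEquiv, Compute.card_m24]

/-- The action on the coordinate vectors. -/
noncomputable def rho : ↥N1 →* Equiv.Perm (Fin 2048) :=
  (Equiv.ofBijective _ coset_bijective).symm.permCongrHom.toMonoidHom.comp
    (MulAction.toPermHom ↥N1 (↥N1 ⧸ PN))

theorem cosetV_rho (x : ↥N1) (v : Fin 2048) : cosetV (rho x v) = x • cosetV v := by
  show cosetV ((Equiv.ofBijective _ coset_bijective).symm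
    (x • (Equiv.ofBijective _ coset_bijective) v)) = _
  exact (Equiv.ofBijective _ coset_bijective).apply_symm_apply _

/-- A monomial letter in list form. -/
structure MLet where
  P : List ℕ
  Q : List ℕ
  m : ℕ
  h1 : ∀ p, ptOf (P.getD (idx (ptOf (Q.getD (idx p) 0))) 0) = p
  h2 : ∀ p, ptOf (Q.getD (idx (ptOf (P.getD (idx p) 0))) 0) = p
  hP : ∀ i < 24, P.getD i 0 < 24
  hσ : ∀ i, Leech.dec (Leech.row i ∘ ⇑(Leech.permOfLists P Q h1 h2)) =
    Leech.row i ∘ ⇑(Leech.permOfLists P Q h1 h2)
  hm : Leech.dec (bitWord m) = bitWord m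

/-- The letter with its action on coordinate lists. -/
def MLet.gen (a : MLet) : LGen := monGen a.P a.Q a.m a.h1 a.h2 a.hP a.hσ a.hm

/-- The permutation of a letter. -/
def MLet.sigma (a : MLet) : ↥Cfsg.M24 :=
  ⟨Leech.permOfLists a.P a.Q a.h1 a.h2, Leech.mem_M24_of_rows a.hσ⟩

/-- The code word of a letter. -/
def MLet.word (a : MLet) : Multiplicative ↥golayCode :=
  Multiplicative.ofAdd ⟨bitWord a.m, (Leech.mem_iff _).2 a.hm⟩

theorem MLet.coe_gen (a : MLet) : toCo a.gen.g = pHom a.sigma * sHom a.word :=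
  map_mul toCo _ _

theorem MLet.mem (a : MLet) : toCo a.gen.g ∈ N1 :=
  a.coe_gen ▸ mul_mem (pHom_mem _) (sHom_mem _)

/-- The letter in the monomial group. -/
noncomputable def MLet.el (a : MLet) : ↥N1 := ⟨toCo a.gen.g, a.mem⟩

/-- Shorten a list by one bit test. -/
noncomputable def allLt (n : ℕ) (f : ℕ → Bool) : Bool :=
  Nat.rec (motive := fun _ => Bool) true (fun i r => f i && r) n

theorem allLt_spec {f : ℕ → Bool} : ∀ {n : ℕ}, allLt n f = true → ∀ i, i < n → f i = true
  | 0, _, i, hi => absurd hi (Nat.not_lt_zero i)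
  | n + 1, h, i, hi => by
    simp only [allLt, Bool.and_eq_true] at h
    rcases Nat.lt_succ_iff_lt_or_eq.1 hi with hi | rfl
    · exact allLt_spec h.2 i hi
    · exact h.1

/-- The bit of a mask at a list position. -/
noncomputable def bitAt (P : List ℕ) (x i : ℕ) : Bool := x.testBit (P.getD i 0)

/-- The letter sends the vector `v` to the vector `p`. -/
noncomputable def stepB (a : MLet) (v p : ℕ) : Bool :=
  force (a.m ^^^ wordM v) fun x => force (wordM p) fun y =>
    allLt 24 (fun i => bitAt a.P x i == y.testBit i) ||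
      allLt 24 (fun i => bitAt a.P x i != y.testBit i)

theorem stepB_spec {a : MLet} {v p : ℕ} (h : stepB a v p = true) :
    ∃ σ, (a.el : Spor.Co1) * sHom (vWord v) = sHom (vWord p) * pHom σ := by
  refine ⟨a.sigma, ?_⟩
  show toCo a.gen.g * sHom (vWord v) = _
  rw [a.coe_gen, mul_assoc, ← map_mul, perm_mul_sign]
  congr 1
  refine sHom_congr ?_
  simp only [stepB, force_eq, Bool.or_eq_true] at h
  have e : ∀ q, (moved a.sigma (a.word * vWord v)).toAdd.1 q =
      bitWord (a.m ^^^ wordM v) (ptOf (a.P.getD (idx q) 0)) := fun q => by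
    rw [Leech.bitWord_xor]
    rfl
  have hb : ∀ q, bitWord (a.m ^^^ wordM v) (ptOf (a.P.getD (idx q) 0)) =
      if bitAt a.P (a.m ^^^ wordM v) (idx q) then 1 else 0 := fun q => by
    simp only [bitWord, Leech.idx_ptOf _ (a.hP _ (Leech.idx_lt q)), bitAt]
    rfl
  rcases h with h | h
  · refine Or.inl (funext fun q => ?_)
    have h' := allLt_spec h (idx q) (Leech.idx_lt q)
    rw [e, hb, beq_iff_eq.1 h']
    rfl
  · refine Or.inr (funext fun q => ?_)
    have h' := allLt_spec h (idx q) (Leech.idx_lt q)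
    rw [e, hb, Pi.add_apply]
    simp only [bitWord, Pi.one_apply]
    cases hx : bitAt a.P (a.m ^^^ wordM v) (idx q) <;>
      cases hy : (wordM p).testBit (idx q) <;> simp [hx, hy] at h' ⊢ <;> decide

/-- The table entries of one letter. -/
noncomputable def actOKRow (T : Tab) (a : MLet) (g : ℕ) : Bool :=
  allLt 2048 fun p => force (T.act g p) fun v => Nat.blt v 2048 && stepB a v p

theorem act_eq_of {T : Tab} {a : MLet} {g : ℕ} (h : actOKRow T a g = true) (p : Fin 2048) :
    T.act g p.val = ((rho a.el)⁻¹ p).val := by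
  have h' := allLt_spec h p.val p.isLt
  simp only [force_eq, Bool.and_eq_true, Nat.blt_eq] at h'
  obtain ⟨σ, hσ⟩ := stepB_spec h'.2
  have e : rho a.el ⟨T.act g p.val, h'.1⟩ = p := by
    apply coset_bijective.1
    rw [cosetV_rho]
    show (QuotientGroup.mk (a.el * ⟨_, sHom_mem _⟩) : ↥N1 ⧸ PN) = QuotientGroup.mk _
    rw [QuotientGroup.eq, Subgroup.mem_subgroupOf]
    show ((a.el : Spor.Co1) * sHom (vWord (T.act g p.val)))⁻¹ * sHom (vWord p.val) ∈ P1
    rw [hσ, mul_inv_rev, inv_mul_cancel_right]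
    exact inv_mem (P1_eq ▸ ⟨σ, rfl⟩)
  conv_rhs => rw [← e]
  rw [Equiv.Perm.inv_def, Equiv.symm_apply_apply]

/-- The base points of a table. -/
noncomputable def basePt (T : Tab) (l : ℕ) : Fin 2048 := Fin.ofNat 2048 (fld T.base l)

/-- Checked letters give an action. -/
theorem acts_of {T : Tab} {lets : ℕ → MLet} (hact : ∀ g, g < T.nL → actOKRow T (lets g) g = true)
    (hlt : ∀ g p, T.act g p < 65536) (hb : T.base = pk16 T.k fun l => (basePt T l).val) :
    Acts rho T (fun g => (lets g).el) (basePt T) :=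
  ⟨by norm_num, fun g hg p => act_eq_of (hact g hg) p, hlt, hb⟩

end Cfsg.Agent.CoOneUniq
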