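import Cfsg.Agent.CoOneUniq.Main

/-!
# Local subgroups of the model carried to a group with the hypothesis
-/

set_option autoImplicit false

open Cfsg

namespace Cfsg.Agent.CoOneUniq

universe u

variable {G : Type u} [Group G]

/-- An isomorphism carries the centraliser of a subgroup to that of its image. -/
theorem map_centralizer_equiv (φ : Spor.Co1 ≃* G) (V : Subgroup Spor.Co1) :
    (Subgroup.centralizer (V : Set Spor.Co1)).map φ.toMonoidHom =
      Subgroup.centralizer ((V.map φ.toMonoidHom : Subgroup G) : Set G) := by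
  ext x
  obtain ⟨y, rfl⟩ := φ.surjective x
  rw [Subgroup.mem_map_equiv, MulEquiv.symm_apply_apply, Subgroup.mem_centralizer_iff,
    Subgroup.mem_centralizer_iff]
  constructor
  · rintro h _ ⟨a, ha, rfl⟩
    show φ a * φ y = φ y * φ a
    rw [← map_mul, h a ha, map_mul]
  · intro h a ha
    exact φ.injective (by rw [map_mul, map_mul]; exact h (φ a) ⟨a, ha, rfl⟩)

/-- A subgroup with prescribed order and centraliser, carried over. -/
theorem exists_centralizer_transport (φ : Spor.Co1 ≃* G) {n : ℕ} {M : Type*} [Group M]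
    (h : ∃ V : Subgroup Spor.Co1, Nat.card V = n ∧
      Nonempty (↥(Subgroup.centralizer (V : Set Spor.Co1)) ≃* M)) :
    ∃ V : Subgroup G, Nat.card V = n ∧ Nonempty (↥(Subgroup.centralizer (V : Set G)) ≃* M) := by
  obtain ⟨V, hn, ⟨e⟩⟩ := h
  refine ⟨V.map φ.toMonoidHom, ?_, ⟨((φ.subgroupMap _).trans
    (MulEquiv.subgroupCongr (map_centralizer_equiv φ V))).symm.trans e⟩⟩
  rw [← hn]
  exact (Nat.card_congr (φ.subgroupMap V).toEquiv).symm

/-- A subgroup with prescribed order and normaliser, carried over. -/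
theorem exists_normalizer_transport (φ : Spor.Co1 ≃* G) {n : ℕ} {M : Type*} [Group M]
    (h : ∃ W : Subgroup Spor.Co1, Nat.card W = n ∧
      Nonempty (↥(Subgroup.normalizer (W : Set Spor.Co1)) ≃* M)) :
    ∃ W : Subgroup G, Nat.card W = n ∧ Nonempty (↥(Subgroup.normalizer (W : Set G)) ≃* M) := by
  obtain ⟨W, hn, ⟨e⟩⟩ := h
  refine ⟨W.map φ.toMonoidHom, ?_, ⟨((φ.subgroupMap _).trans
    (MulEquiv.subgroupCongr (Subgroup.map_equiv_normalizer_eq W φ))).symm.trans e⟩⟩
  rw [← hn]
  exact (Nat.card_congr (φ.subgroupMap W).toEquiv).symm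

end Cfsg.Agent.CoOneUniq
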